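import Groth.Agent.RCentreLib.Torus
import Groth.Agent.MaxTorusRankLib.Cartan
import Groth.Agent.FlatLib.FibreFlatScheme
import Groth.Agent.S3006
import Groth.Agent.S3003
import Groth.Agent.S12442

/-!
# Groups in which maximal tori are their own centralizers
-/

set_option autoImplicit false
set_option linter.style.haveILetI false

noncomputable section

universe u

open CategoryTheory CategoryTheory.Limits MonoidalCategory CartesianMonoidalCategory AlgebraicGeometry CoactBr
open scoped MonObj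

attribute [-instance] CategoryTheory.Hom.commGroup

namespace Groth.Agent.RCentre

open HomRep (bcEquiv)
open MultEq (LE)
open Groth.Agent.RedRank (Has)

attribute [local instance] CoactBr.braidedAlgSpecOf

variable {S : Scheme.{u}}

/-- Tori are commutative. -/
theorem commute_torus {T : Over S} [GrpObj T] (hT : Red.IsTorus T) {X : Over S} (a b : X ⟶ T) : a * b = b * a := by
  obtain ⟨S', f, hflat, hsurj, -, hloc⟩ := hT
  haveI := hflat; haveI := hsurj
  choose U hU r hr using hloc
  have hall : CentLocus.CentAt (𝟙 T) (𝟙 S) := TrivLocus.triv_of_family (fun x => (U x).ι ≫ f)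
    (fun x => inferInstance) (fun s => by
      obtain ⟨x, rfl⟩ := f.surjective s
      exact ⟨x, ⟨x, hU x⟩, by rw [Scheme.Hom.comp_apply]; rfl⟩) fun x => by
    rw [Category.comp_id]
    obtain ⟨e⟩ := hr x
    refine (CentLocus.centAt_bc_iff (𝟙 T) _).2 fun Z g h => ?_
    rw [CategoryTheory.Functor.map_id, Category.comp_id]
    let j : Red.bc ((U x).ι ≫ f) T ≅ Red.DS (U x : Scheme.{u}) (Fin (r x) → ℤ) := (Grp.forget _).mapIso e
    haveI : IsMonHom j.hom := e.hom.hom.isMonHom_hom
    refine (cancel_mono j.hom).1 ?_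
    rw [MonObj.mul_comp, MonObj.mul_comp]
    exact mul_comm _ _
  simpa using (CentLocus.centAt_iff (𝟙 T) _).1 hall X X.hom (Category.comp_id _) b a

theorem isIso_lift_of_section {X Y S K : Scheme.{u}} (f : X ⟶ Y) [Mono f] (g : Y ⟶ S) (k : K ⟶ S)
    (m : pullback g k ⟶ X) (hm : m ≫ f = pullback.fst g k) :
    IsIso (pullback.lift (pullback.fst (f ≫ g) k ≫ f) (pullback.snd (f ≫ g) k)
      (by rw [Category.assoc, pullback.condition]) : pullback (f ≫ g) k ⟶ pullback g k) := by
  refine ⟨pullback.lift m (pullback.snd g k) (by rw [← Category.assoc, hm, pullback.condition]), ?_, ?_⟩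
  · refine pullback.hom_ext ?_ ?_
    · rw [← cancel_mono f]
      simp only [Category.assoc, pullback.lift_fst_assoc, hm, pullback.lift_fst, Category.id_comp]
    · rw [Category.assoc, pullback.lift_snd, pullback.lift_snd, Category.id_comp]
  · refine pullback.hom_ext ?_ ?_
    · rw [Category.assoc, pullback.lift_fst, pullback.lift_fst_assoc, hm, Category.id_comp]
    · rw [Category.assoc, pullback.lift_snd, pullback.lift_snd, Category.id_comp]

/-- A closed flat subscheme containing every fibre is everything. -/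
theorem isIso_of_le_fibres {X Y : Over S} (f : X ⟶ Y) [IsClosedImmersion f.left] [Flat X.hom]
    [LocallyOfFinitePresentation X.hom] [LocallyOfFiniteType Y.hom]
    (h : ∀ s : S, LE (𝟙 Y) f (S.fromSpecResidueField s)) : IsIso f := by
  haveI hw1 : Flat (f.left ≫ Y.hom) := by rw [Over.w f]; infer_instance
  haveI hw2 : LocallyOfFinitePresentation (f.left ≫ Y.hom) := by rw [Over.w f]; infer_instance
  have hsec : ∀ s, ∃ m : pullback Y.hom (S.fromSpecResidueField s) ⟶ X.left,
      m ≫ f.left = pullback.fst Y.hom (S.fromSpecResidueField s) := by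
    intro s
    let P : Over S := Over.mk (pullback.snd Y.hom (S.fromSpecResidueField s) ≫ S.fromSpecResidueField s)
    obtain ⟨h', hh'⟩ := h s P (pullback.snd Y.hom (S.fromSpecResidueField s)) rfl
      (Over.homMk (pullback.fst Y.hom (S.fromSpecResidueField s)) pullback.condition)
    rw [Category.comp_id] at hh'
    exact ⟨h'.left, congrArg Over.Hom.left hh'⟩
  haveI : ∀ s, IsIso (MoreMor.fiberMap f.left Y.hom s) := fun s => by
    obtain ⟨m, hm⟩ := hsec s
    exact isIso_lift_of_section f.left Y.hom (S.fromSpecResidueField s) m hm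
  haveI : Flat f.left := FlatLib.flat_of_fibres_flat_lfp f.left Y.hom fun s => inferInstance
  haveI : LocallyOfFinitePresentation f.left := S12442.lfp_of_comp_lft f.left Y.hom
  haveI : IsOpenImmersion f.left := IsOpenImmersion.of_flat_of_mono f.left
  haveI : Surjective f.left := ⟨fun y => by
    obtain ⟨m, hm⟩ := hsec (Y.hom y)
    let q : ↥(pullback Y.hom (S.fromSpecResidueField (Y.hom y))) := (Y.hom.fiberHomeo (Y.hom y)).symm ⟨y, rfl⟩
    refine ⟨m q, ?_⟩
    refine Eq.trans ?_ (Y.hom.fiberι_fiberHomeo_symm (Y.hom y) ⟨y, rfl⟩)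
    exact congrArg (fun m => m q) hm⟩
  haveI : IsIso f.left := isIso_of_isOpenImmersion_of_opensRange_eq_top f.left (TopologicalSpace.Opens.ext
    (Set.range_eq_univ.2 f.left.surjective))
  haveI : IsIso ((Over.forget S).map f) := inferInstanceAs (IsIso f.left)
  exact isIso_of_reflects_iso f (Over.forget S)

/-- A maximal torus stays maximal under isomorphisms. -/
theorem isMaxTorus_comp_iso {G G' T : Over S} [GrpObj G] [GrpObj G'] [GrpObj T] {i : T ⟶ G} (h : AGF.IsMaxTorus i)
    (e : G ≅ G') [IsMonHom e.hom] : AGF.IsMaxTorus (i ≫ e.hom) := by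
  obtain ⟨h1, h2, h3, h4⟩ := h
  haveI := h1; haveI := h2
  haveI : IsMonHom e.inv := inferInstance
  refine ⟨inferInstance, inferInstance, h3, fun T' _ j _ _ f hT' hf => h4 T' (j ≫ e.inv) f hT' ?_⟩
  rw [← Category.assoc, hf, Category.assoc, e.hom_inv_id, Category.comp_id]

theorem mono_bc_map {G H : Over S} (i : H ⟶ G) [Mono i] {P : Scheme.{u}} (p : P ⟶ S) :
    Mono ((Over.pullback p).map i) := by
  haveI : (Over.pullback p).IsRightAdjoint := (Over.mapPullbackAdj p).isRightAdjoint
  infer_instance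

/-- With unipotent rank zero, maximal tori over any base are self-centralizing on geometric fibres. -/
theorem selfCent_geom (G : Over S) [GrpObj G] [IsAffineHom G.hom] [Smooth G.hom] (h0 : SGA3x.UnipotentRankZero G)
    {P : Scheme.{u}} (g : P ⟶ S) {T : Over P} [GrpObj T] {i : T ⟶ Red.bc g G} (hi : Red.IsMaximalTorus i)
    {K : Type u} [Field K] [IsAlgClosed K] (q : Spec (CommRingCat.of K) ⟶ P) (X : Over (Spec (CommRingCat.of K)))
    (x : X ⟶ Red.bc q (Red.bc g G))
    (hx : ∀ (X' : Over (Spec (CommRingCat.of K))) (y : X' ⟶ X) (t : X' ⟶ Red.bc q T),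
      (y ≫ x) * (t ≫ (Over.pullback q).map i : X' ⟶ Red.bc q (Red.bc g G)) = (t ≫ (Over.pullback q).map i) * (y ≫ x)) :
    ∃ t : X ⟶ Red.bc q T, t ≫ (Over.pullback q).map i = x := by
  let s : S := (q ≫ g) (IsLocalRing.closedPoint K)
  obtain ⟨d, hd⟩ := MaxTorusRank.exists_lift_geomPt (q ≫ g) s rfl
  haveI := hi.1; haveI := hi.2.1
  haveI := RedRank.isAffineHom_bc G g
  haveI : Smooth (Red.bc g G).hom := MorphismProperty.pullback_snd (P := @Smooth) _ _ inferInstance
  haveI := RedRank.isAffineHom_bc (Red.bc g G) q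
  haveI : Smooth (Red.bc q (Red.bc g G)).hom := MorphismProperty.pullback_snd (P := @Smooth) _ _ inferInstance
  haveI : IsAffine (Red.bc q (Red.bc g G)).left := isAffine_of_isAffineHom (Red.bc q (Red.bc g G)).hom
  haveI := RedRank.isAffineHom_bc G (Red.geomPt s)
  haveI : Smooth (Red.geomFibre s G).hom := MorphismProperty.pullback_snd (P := @Smooth) _ _ inferInstance
  obtain ⟨n, hn⟩ := MaxTorusRank.exists_has (Red.geomFibre s G)
  obtain ⟨r, is, his, -⟩ := RedRank.exists_maximal G (Red.geomPt s) hn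
  haveI := his.1; haveI := his.2.1
  have hcent := MaxTorusRank.isCentralizerOf_bc (h0 s _ is his) d
  let c₁ : Red.bc q (Red.bc g G) ≅ Red.bc (q ≫ g) G := ActBC.bcCompIso q g G rfl
  let c₂ : Red.bc d (Red.geomFibre s G) ≅ Red.bc (q ≫ g) G := ActBC.bcCompIso d (Red.geomPt s) G hd
  haveI : IsMonHom c₁.hom := ActBC.bcCompIso_isMonHom _ _ _
  haveI : IsMonHom c₂.hom := ActBC.bcCompIso_isMonHom _ _ _
  haveI : IsMonHom c₁.inv := inferInstance
  let θ : Red.bc d (Red.geomFibre s G) ≅ Red.bc q (Red.bc g G) := c₂ ≪≫ c₁.symm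
  haveI : IsMonHom θ.hom := inferInstanceAs (IsMonHom (c₂.hom ≫ c₁.inv))
  have h1 : AGF.IsMaxTorus (T := Red.bc q T) (G := Red.bc q (Red.bc g G)) ((Over.pullback q).map i) :=
    MaxTorusRank.isMaxTorus_of_isMaximalTorus (isMaximalTorus_bc hi q)
  have h2 := isMaxTorus_comp_iso (MaxTorusRank.isMaxTorus_of_isMaximalTorus (isMaximalTorus_bc his d)) θ
  obtain ⟨a, f, hf⟩ := MaxTorusRank.exists_conj h1 h2
  let κ := AGF.conjBy a (𝟙 (Red.bc q (Red.bc g G)))
  haveI : IsMonHom κ := DiagRep.isMonHom_conjBy a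
  haveI : IsIso κ := DiagRep.isIso_conjBy a
  haveI : IsMonHom θ.inv := inferInstance
  rw [DiagRep.conjBy_eq_comp a ((Over.pullback q).map i)] at hf
  obtain ⟨t₀, ht₀⟩ := (hcent.2.2 X (x ≫ κ ≫ θ.inv)).2 fun X' y t => by
    have h3 := congrArg (fun m => m ≫ κ ≫ θ.inv) (hx X' y (t ≫ f.inv))
    simp only [MonObj.mul_comp, Category.assoc] at h3
    have hfi : f.inv ≫ (Over.pullback q).map i ≫ κ ≫ θ.inv = (Over.pullback d).map is := by
      rw [← reassoc_of% hf]
      simp
    rw [hfi] at h3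
    exact h3
  refine ⟨t₀ ≫ f.inv, ?_⟩
  rw [← cancel_mono κ, Category.assoc, Category.assoc, ← hf, Iso.inv_hom_id_assoc, ← Category.assoc, ht₀]
  simp

/-- A maximal torus which is self-centralizing on the geometric fibres is self-centralizing. -/
theorem exists_factor_of_selfCent (G : Over S) [GrpObj G] [IsAffineHom G.hom] [Smooth G.hom] {T : Over S} [GrpObj T]
    {i : T ⟶ G} [IsMonHom i] [Mono i] (hT : Red.IsTorus T)
    (hsc : ∀ (s : S) (X : Over (Spec (CommRingCat.of (AlgebraicClosure (S.residueField s))))) (x : X ⟶ Red.geomFibre s G),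
      (∀ (X' : Over (Spec (CommRingCat.of (AlgebraicClosure (S.residueField s))))) (y : X' ⟶ X)
        (t : X' ⟶ Red.geomFibre s T), (y ≫ x) * (t ≫ (Over.pullback (Red.geomPt s)).map i : X' ⟶ Red.geomFibre s G) =
          (t ≫ (Over.pullback (Red.geomPt s)).map i) * (y ≫ x)) →
      ∃ t : X ⟶ Red.geomFibre s T, t ≫ (Over.pullback (Red.geomPt s)).map i = x)
    {X : Over S} (x : X ⟶ G)
    (hx : ∀ (X' : Over S) (y : X' ⟶ X) (t : X' ⟶ T), (y ≫ x) * (t ≫ i) = (t ≫ i) * (y ≫ x)) :
    ∃ t : X ⟶ T, t ≫ i = x := by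
  haveI := Transporter.isClosedImmersion_of_mono (RedRank.locally_of_isTorus hT) ‹IsAffineHom G.hom› i
  obtain ⟨⟨C, _, c, hc, hcl, hsm⟩, -⟩ := S3006.result S G T i ‹_› hT
  haveI := hcl; haveI := hsm; haveI := hc.1; haveI := hc.2.1
  obtain ⟨k, hk⟩ := (hc.2.2 T i).2 fun X' y t => by
    rw [← MonObj.mul_comp, ← MonObj.mul_comp, commute_torus hT]
  haveI : IsClosedImmersion (k.left ≫ c.left) := by rw [← Over.comp_left, hk]; infer_instance
  haveI : IsClosedImmersion k.left := IsClosedImmersion.of_comp k.left c.left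
  haveI := EqNhd.flat_of_isMultTypeFT (RedRank.isMultTypeFT_of_isTorus hT)
  haveI := MultEq.lfp_of_isMultTypeFT (RedRank.isMultTypeFT_of_isTorus hT)
  haveI : IsIso k := isIso_of_le_fibres k fun s => by
    let q := Red.geomPt s
    obtain ⟨t, ht⟩ := hsc s _ ((Over.pullback q).map c) fun X' y t => by
      have h := ((MaxTorusRank.isCentralizerOf_bc hc q).2.2 X' (y ≫ (Over.pullback q).map c)).1 ⟨y, rfl⟩ X' (𝟙 X') t
      rw [Category.id_comp] at h
      exact h
    haveI := mono_bc_map c q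
    have ht' : t ≫ (Over.pullback q).map k = 𝟙 _ := by
      rw [← cancel_mono ((Over.pullback q).map c), Category.assoc, ← Functor.map_comp, hk, ht, Category.id_comp]
    have hle : LE (𝟙 C) k q := RedRank.le_of_bc_factor (𝟙 C) k q t (by rw [ht', CategoryTheory.Functor.map_id])
    exact RedRank.geomPt_apply s ▸ (MultEq.le_field_iff q).1 hle
  obtain ⟨z, hz⟩ := (hc.2.2 X x).2 hx
  exact ⟨z ≫ inv k, by rw [Category.assoc, ← hk, IsIso.inv_hom_id_assoc, hz]⟩

/-- Unipotent rank zero makes the reductive rank locally constant. -/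
theorem redRank_of_rankZero (G : Over S) [GrpObj G] [IsAffineHom G.hom] [Smooth G.hom]
    (hconn : ∀ s : S, _root_.IsConnected (G.hom.base ⁻¹' {s})) (h0 : SGA3x.UnipotentRankZero G) :
    SGA3x.RedRankLocallyConstant G := by
  intro s
  obtain ⟨B, _, v, hv, hs, T, _, i, hi, r, ⟨e⟩⟩ := S3003.result S G hconn s fun T _ i hi X x hx => by
    obtain ⟨t, ht⟩ := ((h0 s T i hi).2.2 X x).2 hx
    exact ⟨t, ht.symm⟩
  haveI := hv; haveI := hi.1; haveI := hi.2.1
  haveI := RedRank.isAffineHom_bc G v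
  haveI : Smooth (Red.bc v G).hom := MorphismProperty.pullback_snd (P := @Smooth) _ _ inferInstance
  let j : T ≅ Red.DS (Spec (CommRingCat.of B)) (Fin r → ℤ) := (Grp.forget _).mapIso e
  haveI : IsMonHom j.hom := e.hom.hom.isMonHom_hom
  refine ⟨⟨Set.range v, v.isOpenMap.isOpen_range⟩, hs, (r : WithBot ℕ∞), fun t ht => ?_⟩
  obtain ⟨z, rfl⟩ := ht
  have key : ∀ m, Has (Red.geomFibre (v z) G) m ↔ Has (Red.geomFibre z (Red.bc v G)) m := fun m => by
    refine (MaxTorusRank.has_congr G (Red.geomPt (v z)) (Red.geomPt z ≫ v) ?_ m).trans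
      (MaxTorusRank.has_bc_bc_iff G v (Red.geomPt z) m).symm
    exact (RedRank.geomPt_apply (v z)).trans (by rw [Scheme.Hom.comp_apply, RedRank.geomPt_apply])
  refine MaxTorusRank.hasRedRank_of_forall fun m => (key m).trans ⟨fun hm => ?_, fun hm => ?_⟩
  · exact (MaxTorusRank.has_bc_DS_iff _ r m).1
      ((MaxTorusRank.has_bc_iff_of_iso j (Red.geomPt z) m).1 (MaxTorusRank.has_of_isMaximalTorus hi _ hm))
  · have h1 := (MaxTorusRank.has_bc_iff_of_iso j (Red.geomPt z) m).2 ((MaxTorusRank.has_bc_DS_iff _ r m).2 hm)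
    haveI := mono_bc_map i (Red.geomPt z)
    haveI : IsMonHom (M := Red.geomFibre z T) (N := Red.geomFibre z (Red.bc v G))
        ((Over.pullback (Red.geomPt z)).map i) := DiagRep.isMonHom_bc_map _ i
    exact RedRank.has_mono ((Over.pullback (Red.geomPt z)).map i) h1

end Groth.Agent.RCentre
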