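import Groth.Agent.RedRankLib.CommRel
import Groth.Agent.CentLocusLib.Global
import Groth.Agent.CentreDescLib.Main

/-!
# Gluing reductive centres given etale-locally
-/

set_option autoImplicit false
set_option linter.style.haveILetI false

noncomputable section

universe u

open CategoryTheory CategoryTheory.Limits MonoidalCategory CartesianMonoidalCategory AlgebraicGeometry CoactBr
open scoped MonObj

attribute [-instance] CategoryTheory.Hom.commGroup

namespace Groth.Agent.RCentre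

open HomRep (bcEquiv)
open Groth.Agent.RedRank (LocIn)

attribute [local instance] CoactBr.braidedAlgSpecOf

variable {S : Scheme.{u}}

/-- A reductive centre. -/
def IsRC {G Z : Over S} [GrpObj G] [GrpObj Z] (z : Z ⟶ G) : Prop :=
  IsMonHom z ∧ Mono z ∧ SGA3x.IsMultTypeFT Z ∧
    (∀ (X : Over S) (x : X ⟶ Z) (g : X ⟶ G), (x ≫ z) * g = g * (x ≫ z)) ∧
    ∀ (S' : Scheme.{u}) (f : S' ⟶ S) (H : Over S') [GrpObj H] (v : H ⟶ Red.bc f G) [IsMonHom v],
      SGA3x.IsMultTypeFT H →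
      (∀ (X : Over S') (x : X ⟶ H) (g : X ⟶ Red.bc f G), (x ≫ v) * g = g * (x ≫ v)) →
      ∃ w : H ⟶ Red.bc f Z, w ≫ (Over.pullback f).map z = v

/-- Central homomorphisms stay central after base change. -/
theorem central_bc {G H : Over S} [GrpObj G] (u : H ⟶ G)
    (hu : ∀ (X : Over S) (x : X ⟶ H) (g : X ⟶ G), (x ≫ u) * g = g * (x ≫ u)) {P : Scheme.{u}} (p : P ⟶ S)
    (X : Over P) (x : X ⟶ Red.bc p H) (g : X ⟶ Red.bc p G) :
    (x ≫ (Over.pullback p).map u : X ⟶ Red.bc p G) * g = g * (x ≫ (Over.pullback p).map u) := by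
  have nat : x ≫ (Over.pullback p).map u = bcEquiv p G X ((bcEquiv p H X).symm x ≫ u) := by
    rw [Adjunction.homEquiv_naturality_right, Equiv.apply_symm_apply]
  rw [nat, ← (bcEquiv p G X).apply_symm_apply g, ← HomRep.bcEquiv_mul, ← HomRep.bcEquiv_mul, hu]

/-- A central homomorphism from a group of multiplicative type lies, over the base of a local reductive centre, in it. -/
theorem locIn_of_central {G : Over S} [GrpObj G] {U : Scheme.{u}} (π : U ⟶ S) {T : Over U} [GrpObj T]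
    {i : T ⟶ Red.bc π G} (hi : IsRC i) {S' : Scheme.{u}} (f : S' ⟶ S) {H : Over S'} [GrpObj H]
    (u : H ⟶ Red.bc f G) [IsMonHom u] (hH : SGA3x.IsMultTypeFT H)
    (hu : ∀ (X : Over S') (x : X ⟶ H) (g : X ⟶ Red.bc f G), (x ≫ u) * g = g * (x ≫ u)) :
    LocIn π G i ((bcEquiv f G H).symm u) := by
  intro Z z
  let p₁ : pullback π f ⟶ U := pullback.fst _ _
  let p₂ : pullback π f ⟶ S' := pullback.snd _ _
  let c : pullback π f ⟶ S := p₁ ≫ π
  let c₂ : Red.bc p₂ (Red.bc f G) ≅ Red.bc c G := ActBC.bcCompIso p₂ f G pullback.condition.symm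
  let c₁ : Red.bc p₁ (Red.bc π G) ≅ Red.bc c G := ActBC.bcCompIso p₁ π G rfl
  haveI : IsMonHom c₁.hom := ActBC.bcCompIso_isMonHom _ _ _
  haveI : IsMonHom c₂.hom := ActBC.bcCompIso_isMonHom _ _ _
  haveI : IsMonHom c₁.inv := inferInstance
  haveI : IsMonHom (M := Red.bc p₂ H) (N := Red.bc p₂ (Red.bc f G)) ((Over.pullback p₂).map u) :=
    DiagRep.isMonHom_bc_map p₂ u
  let v : Red.bc p₂ H ⟶ Red.bc p₁ (Red.bc π G) := (Over.pullback p₂).map u ≫ c₂.hom ≫ c₁.inv
  haveI : IsMonHom v := inferInstanceAs (IsMonHom ((Over.pullback p₂).map u ≫ c₂.hom ≫ c₁.inv))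
  obtain ⟨w, hw⟩ := hi.2.2.2.2 _ p₁ (Red.bc p₂ H) v (DescHom.isMultTypeFT_bc hH p₂) (fun X x g => by
    haveI : IsMonHom (c₂.hom ≫ c₁.inv) := inferInstance
    have h := central_bc u hu p₂ X x (g ≫ inv (c₂.hom ≫ c₁.inv))
    have h' := congrArg (· ≫ c₂.hom ≫ c₁.inv) h
    simp only [MonObj.mul_comp, Category.assoc] at h'
    simpa [v] using h')
  let x : Z.left ⟶ pullback π f := pullback.lift Z.hom (z.left ≫ H.hom) (by
    rw [Category.assoc]
    exact (Over.w z).symm)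
  let Zx : Over (pullback π f) := Over.mk x
  let b : Zx ⟶ Red.bc p₂ H := bcEquiv p₂ H Zx (Over.homMk z.left (pullback.lift_snd _ _ _).symm)
  have hfe : w ≫ (Over.pullback p₁).map i ≫ c₁.hom = (Over.pullback p₂).map u ≫ c₂.hom := by
    rw [reassoc_of% hw]
    simp [v]
  refine ⟨Over.homMk ((b ≫ w).left ≫ pullback.fst T.hom p₁) ?_, ?_⟩
  · have h := Over.w (b ≫ w)
    rw [Category.assoc]
    erw [pullback.condition]
    rw [← Category.assoc, show pullback.snd T.hom p₁ = (Red.bc p₁ T).hom from rfl]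
    erw [h]
    exact pullback.lift_fst _ _ _
  · apply (bcEquiv π G Z).symm.injective
    rw [Equiv.symm_apply_apply, Adjunction.homEquiv_counit, Adjunction.homEquiv_counit]
    refine Over.OverMorphism.ext ?_
    have key := congrArg (fun m => b.left ≫ Over.Hom.left m ≫ pullback.fst G.hom c) hfe
    simp only [Over.comp_left, Category.assoc, c₁, c₂, ActBC.bcCompIso_hom_left_fst,
      ActBC.pullback_map_left_fst_assoc] at key
    have hb : b.left ≫ pullback.fst H.hom p₂ = z.left := by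
      have h := congrArg Over.Hom.left ((bcEquiv p₂ H Zx).symm_apply_apply
        (Over.homMk z.left (pullback.lift_snd _ _ _).symm))
      rw [Adjunction.homEquiv_counit] at h
      simpa [b, Over.mapPullbackAdj] using h
    rw [reassoc_of% hb] at key
    simpa [Over.mapPullbackAdj] using key

/-- Reductive centres on the pieces of a smooth covering glue. -/
theorem exists_of_local (G : Over S) [GrpObj G] {ν : Type u} {Q : ν → Scheme.{u}} (ϖ : ∀ l, Q l ⟶ S)
    [∀ l, Smooth (ϖ l)] (hcov : ∀ s : S, ∃ l, s ∈ Set.range (ϖ l)) (M : ν → Type) [∀ l, AddCommGroup (M l)]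
    [∀ l, AddGroup.FG (M l)] (i : ∀ l, Red.DS (Q l) (M l) ⟶ Red.bc (ϖ l) G) (hi : ∀ l, IsRC (i l)) :
    ∃ (Z : Over S) (_ : GrpObj Z) (z : Z ⟶ G), IsRC z := by
  haveI : ∀ l, IsMonHom (i l) := fun l => (hi l).1
  haveI : ∀ l, Mono (i l) := fun l => (hi l).2.1
  haveI : Flat (Limits.Sigma.desc ϖ) := IsZariskiLocalAtSource.sigmaDesc fun l => inferInstance
  haveI : LocallyOfFinitePresentation (Limits.Sigma.desc ϖ) := IsZariskiLocalAtSource.sigmaDesc fun l => inferInstance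
  haveI : Surjective (Limits.Sigma.desc ϖ) := ⟨fun s => by
    obtain ⟨l, w, hw⟩ := hcov s
    refine ⟨Limits.Sigma.ι Q l w, ?_⟩
    rw [← Scheme.Hom.comp_apply, Limits.Sigma.ι_desc]
    exact hw⟩
  haveI : DescLib.Fpqc (Limits.Sigma.desc ϖ) :=
    ⟨Scheme.fppfPrecoverage_le_fpqcPrecoverage _ (Scheme.Hom.singleton_mem_fppfPrecoverage _)⟩
  haveI : ∀ l, IsAffineHom (Red.DS (Q l) (M l)).hom := fun l => MultEq.isAffineHom_DS _ _
  obtain ⟨Z, gZ, z, hz, hzm, -, hlift, hiso⟩ := RedRank.exists_descended G ϖ i fun k l =>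
    locIn_of_central (ϖ l) (hi l) (ϖ k) (i k) (hi k).2.2.1 (hi k).2.2.2.1
  haveI := hz; haveI := hzm
  refine ⟨Z, gZ, z, hz, hzm, ?_, ?_, ?_⟩
  · refine ⟨∐ Q, Limits.Sigma.desc ϖ, inferInstance, inferInstance,
      fun V hV => RedRank.hcov_of_open (Limits.Sigma.desc ϖ) V hV, fun x => ?_⟩
    obtain ⟨l, w, hw⟩ := DescLib.exists_sigma_mem x
    let o := Limits.Sigma.ι Q l
    let l₀ : (o.opensRange : Scheme.{u}) ⟶ Q l := o.isoOpensRange.inv
    have hl₀ : l₀ ≫ ϖ l = o.opensRange.ι ≫ Limits.Sigma.desc ϖ := by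
      rw [← o.isoOpensRange_inv_comp, Category.assoc, Limits.Sigma.ι_desc]
    refine ⟨o.opensRange, ⟨w, hw⟩, M l, inferInstance, inferInstance, ?_⟩
    obtain ⟨el, hel, -⟩ := hiso l
    haveI := hel
    let cZ : Red.bc l₀ (Red.bc (ϖ l) Z) ≅ Red.bc (o.opensRange.ι ≫ Limits.Sigma.desc ϖ) Z :=
      ActBC.bcCompIso l₀ (ϖ l) Z hl₀
    haveI : IsMonHom cZ.hom := ActBC.bcCompIso_isMonHom _ _ _
    haveI : IsMonHom cZ.inv := inferInstance
    haveI : IsMonHom el.inv := inferInstance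
    haveI : IsMonHom (M := Red.bc l₀ (Red.bc (ϖ l) Z)) (N := Red.bc l₀ (Red.DS (Q l) (M l)))
        ((Over.pullback l₀).map el.inv) := DiagRep.isMonHom_bc_map l₀ el.inv
    obtain ⟨e', he'⟩ := RedCharZeroLib.exists_DS_bc l₀ (M l)
    haveI := he'
    let E : Red.bc (o.opensRange.ι ≫ Limits.Sigma.desc ϖ) Z ≅ Red.DS (o.opensRange : Scheme.{u}) (M l) :=
      cZ.symm ≪≫ (Over.pullback l₀).mapIso el.symm ≪≫ e'.symm
    haveI : IsMonHom E.hom := inferInstanceAs (IsMonHom (cZ.inv ≫ (Over.pullback l₀).map el.inv ≫ e'.inv))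
    exact ⟨Grp.mkIso E (IsMonHom.one_hom E.hom) (IsMonHom.mul_hom E.hom)⟩
  · have hall : CentLocus.CentAt z (𝟙 S) := TrivLocus.triv_of_family ϖ (fun l => inferInstance) hcov fun l => by
      rw [Category.comp_id]
      refine (CentLocus.centAt_bc_iff z (ϖ l)).2 fun X g h => ?_
      obtain ⟨el, hel, hel'⟩ := hiso l
      have h1 : h ≫ (Over.pullback (ϖ l)).map z = (h ≫ el.inv) ≫ i l := by
        rw [← hel', Category.assoc, Iso.inv_hom_id_assoc]
      rw [h1]
      exact (hi l).2.2.2.1 X (h ≫ el.inv) g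
    intro X x g
    exact (CentLocus.centAt_iff z _).1 hall X X.hom (Category.comp_id _) g x
  · intro S' f H _ v _ hH hv
    obtain ⟨a, ha⟩ := hlift _ _ fun l => locIn_of_central (ϖ l) (hi l) f v hH hv
    refine ⟨bcEquiv f Z H a, ?_⟩
    rw [← Adjunction.homEquiv_naturality_right, ha, Equiv.apply_symm_apply]

end Groth.Agent.RCentre
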