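import Groth.Agent.RCentreLib.Local
import Groth.Agent.RCentreLib.Glue
import Groth.Agent.CartanMultLib.Central
import Groth.Agent.MaxTorusRankLib.Etale

/-!
# Reductive centres etale-locally
-/

set_option autoImplicit false
set_option linter.style.haveILetI false

noncomputable section

universe u

open CategoryTheory CategoryTheory.Limits MonoidalCategory CartesianMonoidalCategory AlgebraicGeometry CoactBr
open scoped MonObj TensorProduct

attribute [-instance] CategoryTheory.Hom.commGroup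

namespace Groth.Agent.RCentre

open HomRep (bcEquiv)
open Groth.Agent.RedRank (Has)

attribute [local instance] CoactBr.braidedAlgSpecOf

variable {S : Scheme.{u}}

/-- Connectedness of a fibre, in two forms. -/
theorem conn_fibre_iff {X : Scheme.{u}} (f : X ⟶ S) (t : S) :
    _root_.IsConnected (f.base ⁻¹' {t}) ↔ ConnectedSpace ↥(pullback f (S.fromSpecResidueField t)) := by
  rw [isConnected_iff_connectedSpace]
  constructor
  · intro h
    exact (f.fiberHomeo t).symm.surjective.connectedSpace (f.fiberHomeo t).symm.continuous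
  · intro h
    haveI : ConnectedSpace ↥(f.fiber t) := h
    exact (f.fiberHomeo t).surjective.connectedSpace (f.fiberHomeo t).continuous

/-- Connectedness of the fibres passes to base changes. -/
theorem conn_bc (G : Over S) [GrpObj G] [LocallyOfFiniteType G.hom]
    (hconn : ∀ t : S, ConnectedSpace ↥(pullback G.hom (S.fromSpecResidueField t))) {P : Scheme.{u}} (g : P ⟶ S)
    (p : P) : ConnectedSpace ↥(pullback (Red.bc g G).hom (P.fromSpecResidueField p)) := by
  let d : Spec (CommRingCat.of (P.residueField p)) ⟶ S := P.fromSpecResidueField p ≫ g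
  haveI h : ConnectedSpace ↥(Red.bc d G).left := CentLocus.connectedSpace_geom hconn d
  let e : Red.bc (P.fromSpecResidueField p) (Red.bc g G) ≅ Red.bc d G := ActBC.bcCompIso _ g G rfl
  let φ : ↥(Red.bc (P.fromSpecResidueField p) (Red.bc g G)).left ≃ₜ ↥(Red.bc d G).left :=
    Scheme.homeoOfIso ((Over.forget _).mapIso e)
  exact φ.symm.surjective.connectedSpace φ.symm.continuous

/-- Reductive centres move along isomorphisms. -/
theorem isRC_comp_iso {G G' Z : Over S} [GrpObj G] [GrpObj G'] [GrpObj Z] {z : Z ⟶ G} (hz : IsRC z) (e : G ≅ G')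
    [IsMonHom e.hom] : IsRC (z ≫ e.hom) := by
  obtain ⟨h1, h2, h3, h4, h5⟩ := hz
  haveI := h1; haveI := h2
  haveI : IsMonHom e.inv := inferInstance
  refine ⟨inferInstance, inferInstance, h3, fun X x g => ?_, fun S' f H _ v _ hH hv => ?_⟩
  · refine (cancel_mono e.inv).1 ?_
    rw [MonObj.mul_comp, MonObj.mul_comp]
    simpa using h4 X x (g ≫ e.inv)
  · haveI : IsMonHom (M := Red.bc f G') (N := Red.bc f G) ((Over.pullback f).map e.inv) :=
      DiagRep.isMonHom_bc_map f e.inv
    obtain ⟨w, hw⟩ := h5 S' f H (v ≫ (Over.pullback f).map e.inv) hH fun X x g => by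
      haveI : IsMonHom (M := Red.bc f G) (N := Red.bc f G') ((Over.pullback f).map e.hom) :=
        DiagRep.isMonHom_bc_map f e.hom
      haveI : Mono ((Over.pullback f).map e.hom) := inferInstance
      refine (cancel_mono ((Over.pullback f).map e.hom)).1 ?_
      rw [MonObj.mul_comp, MonObj.mul_comp]
      simpa [← Functor.map_comp] using hv X x (g ≫ (Over.pullback f).map e.hom)
    exact ⟨w, by rw [Functor.map_comp, reassoc_of% hw, ← Functor.map_comp, e.inv_hom_id,
      CategoryTheory.Functor.map_id, Category.comp_id]⟩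

/-- Maximal tori pass to base changes. -/
theorem isMaximalTorus_bc {G T : Over S} [GrpObj G] [GrpObj T] [IsAffineHom G.hom] [Smooth G.hom] {i : T ⟶ G}
    (h : Red.IsMaximalTorus i) {P : Scheme.{u}} (f : P ⟶ S) :
    Red.IsMaximalTorus (T := Red.bc f T) (G := Red.bc f G) ((Over.pullback f).map i) := by
  haveI := h.1; haveI := h.2.1
  haveI : IsMonHom (M := Red.bc f T) (N := Red.bc f G) ((Over.pullback f).map i) := DiagRep.isMonHom_bc_map f i
  haveI : Mono ((Over.pullback f).map i) := by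
    haveI : (Over.pullback f).IsRightAdjoint := (Over.mapPullbackAdj f).isRightAdjoint
    infer_instance
  refine MaxTorusRank.isMaximalTorus_of_forall (G := Red.bc f G) (T := Red.bc f T) (RedRank.isTorus_bc h.2.2.1 f)
    fun s m hm => ?_
  exact (MaxTorusRank.has_bc_bc_iff T f _ m).2
    (MaxTorusRank.has_of_isMaximalTorus h _ ((MaxTorusRank.has_bc_bc_iff G f _ m).1 hm))

/-- Near any point there is a split maximal torus over an affine etale neighbourhood. -/
theorem exists_torus_chart (G : Over S) [GrpObj G] [IsAffineHom G.hom] [Smooth G.hom]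
    (h : SGA3x.RedRankLocallyConstant G) (s : S) :
    ∃ (R : Type u) (_ : CommRing R) (g : Spec (CommRingCat.of R) ⟶ S) (n : ℕ)
      (i : sp R (MonoidAlgebra R (Multiplicative (Fin n → ℤ))) ⟶ Red.bc g G),
      Etale g ∧ s ∈ Set.range g ∧ Red.IsMaximalTorus i := by
  obtain ⟨U, hsU, r, hU⟩ := h s
  obtain ⟨n, rfl, hn⟩ := MaxTorusRank.exists_nat_of_hasRedRank (hU s hsU)
  obtain ⟨W, g, i, hg, hi, him, hcov⟩ := RedRank.exists_cover G n
  haveI := hg; haveI := hi; haveI := him
  obtain ⟨S₁, g₁, s₁, hg₁, hs₁, k, rfl⟩ := EtSectLib.exists_section g s (hcov s ((hn n).2 le_rfl))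
  haveI := hg₁
  let V : S₁.Opens := (k ≫ g) ⁻¹ᵁ U
  have hs₁V : s₁ ∈ V := by
    show (k ≫ g) s₁ ∈ U
    rw [hs₁]; exact hsU
  obtain ⟨Wa, hWa, hs₁a, hWaV⟩ := exists_isAffineOpen_mem_and_subset (X := S₁) (x := s₁) (U := V) hs₁V
  let R : CommRingCat.{u} := Γ(S₁, Wa)
  let c : Spec (CommRingCat.of R) ⟶ W := hWa.fromSpec ≫ k
  obtain ⟨e, he⟩ := RedCharZeroLib.exists_DS_bc c (Fin n → ℤ)
  obtain ⟨w, hw, hw'⟩ := TorusField.exists_DS_iso R (Fin n → ℤ)
  let θ : Red.bc c (Red.bc g G) ≅ Red.bc (c ≫ g) G := ActBC.bcCompIso c g G rfl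
  haveI : IsMonHom θ.hom := ActBC.bcCompIso_isMonHom _ _ _
  haveI := he; haveI := hw; haveI := hw'
  haveI : IsMonHom (M := Red.bc c (Red.DS W (Fin n → ℤ))) (N := Red.bc c (Red.bc g G))
      ((Over.pullback c).map i) := DiagRep.isMonHom_bc_map _ i
  haveI : Mono ((Over.pullback c).map i) := by
    haveI : (Over.pullback c).IsRightAdjoint := (Over.mapPullbackAdj _).isRightAdjoint
    infer_instance
  let j : sp R (MonoidAlgebra R (Multiplicative (Fin n → ℤ))) ⟶ Red.bc (c ≫ g) G :=
    w.hom ≫ e.hom ≫ (Over.pullback c).map i ≫ θ.hom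
  haveI : IsMonHom j := inferInstanceAs (IsMonHom (w.hom ≫ e.hom ≫ (Over.pullback c).map i ≫ θ.hom))
  haveI : Mono j := inferInstanceAs (Mono (w.hom ≫ e.hom ≫ (Over.pullback c).map i ≫ θ.hom))
  have het : Etale (c ≫ g) := by
    rw [Category.assoc]; infer_instance
  haveI := RedRank.isAffineHom_bc G (c ≫ g)
  haveI : Smooth (Red.bc (c ≫ g) G).hom := MorphismProperty.pullback_snd (P := @Smooth) _ _ inferInstance
  refine ⟨R, inferInstance, c ≫ g, n, j, het, ?_, MaxTorusRank.isMaximalTorus_of_forall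
    (RedRank.isTorus_of_iso w (RedRank.isTorus_DS _ n)) fun x m hm => ?_⟩
  · obtain ⟨y, hy⟩ : s₁ ∈ Set.range hWa.fromSpec := by rw [hWa.range_fromSpec]; exact hs₁a
    refine ⟨y, ?_⟩
    rw [Category.assoc, Scheme.Hom.comp_apply, hy]
    exact hs₁
  · refine (MaxTorusRank.has_bc_iff_of_iso w (Red.geomPt x) m).2 ((MaxTorusRank.has_bc_DS_iff _ _ _).2 ?_)
    have hm' := (MaxTorusRank.has_bc_bc_iff G (c ≫ g) _ m).1 hm
    have hxU : (c ≫ g) x ∈ U := by
      have h0 : hWa.fromSpec x ∈ (Wa : Set S₁) := hWa.range_fromSpec ▸ Set.mem_range_self x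
      have : hWa.fromSpec x ∈ V := hWaV h0
      rw [Category.assoc, Scheme.Hom.comp_apply]
      exact this
    obtain ⟨n', hn', hall⟩ := MaxTorusRank.exists_nat_of_hasRedRank (hU _ hxU)
    obtain rfl : n = n' := by exact_mod_cast hn'
    refine (hall m).1 ((MaxTorusRank.has_congr G _ (Red.geomPt ((c ≫ g) x)) ?_ m).1 hm')
    rw [Scheme.Hom.comp_apply, RedRank.geomPt_apply, RedRank.geomPt_apply]

/-- Near any point of an affine base with a split maximal torus there is a reductive centre. -/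
theorem exists_rc_open {R : Type u} [CommRing R] (G : Over (Spec (CommRingCat.of R))) [GrpObj G] [IsAffineHom G.hom]
    [Smooth G.hom]
    (hconn : ∀ t : ↥(Spec (CommRingCat.of R)),
      ConnectedSpace ↥(pullback G.hom ((Spec (CommRingCat.of R)).fromSpecResidueField t)))
    {M : Type} [AddCommGroup M] [Module.Finite ℤ M] (i : sp R (MonoidAlgebra R (Multiplicative M)) ⟶ G)
    (hi : Red.IsMaximalTorus i) (s : ↥(Spec (CommRingCat.of R))) :
    ∃ (U : (Spec (CommRingCat.of R)).Opens) (N : AddSubgroup M), s ∈ U ∧ AddGroup.FG (M ⧸ N) ∧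
      ∃ j : Red.DS (U : Scheme.{u}) (M ⧸ N) ⟶ Red.bc U.ι G, IsRC j := by
  haveI := hi.1; haveI := hi.2.1
  obtain ⟨U, N, hsU, hcent, huniv⟩ := exists_local_centre G hconn i s
  obtain ⟨hjm, -, hjmono⟩ := facts_incl (R := R) N
  haveI := hjm; haveI := hjmono
  haveI hfg : AddGroup.FG (M ⧸ N) := by
    haveI : Module.Finite ℤ (M ⧸ N) := Module.Finite.of_surjective
      (QuotientAddGroup.mk' N).toIntLinearMap (QuotientAddGroup.mk'_surjective N)
    exact Module.Finite.iff_addGroup_fg.1 inferInstance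
  obtain ⟨e, he⟩ := RedCharZeroLib.exists_DS_bc U.ι (M ⧸ N)
  obtain ⟨w, hw, hw'⟩ := TorusField.exists_DS_iso R (M ⧸ N)
  haveI := he; haveI := hw; haveI := hw'
  haveI : IsMonHom e.inv := inferInstance
  haveI : IsMonHom (M := Red.bc U.ι (Red.DS (Spec (CommRingCat.of R)) (M ⧸ N))) (N := Red.bc U.ι G)
      ((Over.pullback U.ι).map (w.inv ≫ incl R N ≫ i)) := DiagRep.isMonHom_bc_map _ _
  haveI : Mono ((Over.pullback U.ι).map (w.inv ≫ incl R N ≫ i)) := by
    haveI : (Over.pullback U.ι).IsRightAdjoint := (Over.mapPullbackAdj _).isRightAdjoint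
    infer_instance
  refine ⟨U, N, hsU, hfg, e.hom ≫ (Over.pullback U.ι).map (w.inv ≫ incl R N ≫ i), inferInstance, inferInstance,
    @CentreRed.isMultTypeFT_of_iso _ _ _ _ _ hfg (Iso.refl _) (inferInstanceAs (IsMonHom (𝟙 _))), fun X x g => ?_, fun S' f H _ v _ hH hv => ?_⟩
  · have nat : (x ≫ e.hom) ≫ (Over.pullback U.ι).map (w.inv ≫ incl R N ≫ i) =
        bcEquiv U.ι G X (((bcEquiv U.ι _ X).symm (x ≫ e.hom) ≫ w.inv) ≫ incl R N ≫ i) := by
      rw [Category.assoc ((bcEquiv U.ι _ X).symm _), Adjunction.homEquiv_naturality_right, Equiv.apply_symm_apply]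
    rw [← Category.assoc, nat, ← (bcEquiv U.ι G X).apply_symm_apply g, ← HomRep.bcEquiv_mul, ← HomRep.bcEquiv_mul]
    refine congrArg _ (hcent _ ?_ _ _).symm
    rintro _ ⟨y, rfl⟩
    show (X.hom ≫ U.ι) y ∈ U
    rw [Scheme.Hom.comp_apply]
    exact (X.hom y).2
  · haveI := RedRank.isAffineHom_bc G U.ι
    haveI : Smooth (Red.bc U.ι G).hom := MorphismProperty.pullback_snd (P := @Smooth) _ _ inferInstance
    haveI := RedRank.isAffineHom_bc (Red.bc U.ι G) f
    haveI : Smooth (Red.bc f (Red.bc U.ι G)).hom := MorphismProperty.pullback_snd (P := @Smooth) _ _ inferInstance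
    obtain ⟨w₀, hw₀⟩ := CartanMult.exists_factor_central (Red.bc f (Red.bc U.ι G))
      (fun p => (conn_fibre_iff _ p).2 (conn_bc _ (conn_bc G hconn U.ι) f p))
      (isMaximalTorus_bc (isMaximalTorus_bc hi U.ι) f) hH v hv
    let Y : Over (Spec (CommRingCat.of R)) := (Over.map U.ι).obj ((Over.map f).obj H)
    let t : Y ⟶ sp R (MonoidAlgebra R (Multiplicative M)) :=
      (bcEquiv U.ι _ _).symm ((bcEquiv f _ _).symm w₀)
    have hti : t ≫ i = (bcEquiv U.ι G _).symm ((bcEquiv f (Red.bc U.ι G) _).symm v) := by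
      simp only [t, ← Adjunction.homEquiv_naturality_right_symm, hw₀]
    obtain ⟨t', ht'⟩ := huniv Y t (by
        rintro _ ⟨y, rfl⟩
        show ((H.hom ≫ f) ≫ U.ι) y ∈ U
        rw [Scheme.Hom.comp_apply]
        exact ((H.hom ≫ f) y).2)
      fun Y' y g => by
        let Y'' : Over S' := Over.mk (y.left ≫ H.hom)
        let y'' : Y'' ⟶ H := Over.homMk y.left
        let ε : Y' ≅ (Over.map U.ι).obj ((Over.map f).obj Y'') := Over.isoMk (Iso.refl _) (by
          show 𝟙 _ ≫ ((y.left ≫ H.hom) ≫ f) ≫ U.ι = Y'.hom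
          rw [Category.id_comp, Category.assoc, Category.assoc]
          exact Over.w y)
        have hy : y = ε.hom ≫ (Over.map U.ι).map ((Over.map f).map y'') :=
          Over.OverMorphism.ext (Category.id_comp _).symm
        have key := congrArg (fun q => (bcEquiv U.ι G _).symm ((bcEquiv f (Red.bc U.ι G) _).symm q))
          (hv Y'' y'' (bcEquiv f (Red.bc U.ι G) Y'' (bcEquiv U.ι G _ (ε.inv ≫ g))))
        simp only [HomRep.bcEquiv_symm_mul, Adjunction.homEquiv_naturality_left_symm, Equiv.symm_apply_apply,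
          ← hti] at key
        have key' := congrArg (ε.hom ≫ ·) key
        simp only [MonObj.comp_mul, Iso.hom_inv_id_assoc] at key'
        rw [hy]
        simpa only [Category.assoc] using key'
    refine ⟨bcEquiv f _ H (bcEquiv U.ι _ _ (t' ≫ w.hom)) ≫ (Over.pullback f).map e.inv, ?_⟩
    rw [Category.assoc, ← Functor.map_comp, Iso.inv_hom_id_assoc, ← Adjunction.homEquiv_naturality_right,
      ← Adjunction.homEquiv_naturality_right, Category.assoc, Iso.hom_inv_id_assoc, reassoc_of% ht', hti,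
      Equiv.apply_symm_apply, Equiv.apply_symm_apply]

/-- A group of locally constant reductive rank has a reductive centre. -/
theorem exists_rc (G : Over S) [GrpObj G] [IsAffineHom G.hom] [Smooth G.hom]
    (hconn : ∀ t : S, ConnectedSpace ↥(pullback G.hom (S.fromSpecResidueField t)))
    (hr : SGA3x.RedRankLocallyConstant G) : ∃ (Z : Over S) (_ : GrpObj Z) (z : Z ⟶ G), IsRC z := by
  have hloc : ∀ s : S, ∃ (Q : Scheme.{u}) (ϖ : Q ⟶ S) (M : Type) (_ : AddCommGroup M) (_ : AddGroup.FG M)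
      (i : Red.DS Q M ⟶ Red.bc ϖ G), Smooth ϖ ∧ s ∈ Set.range ϖ ∧ IsRC i := by
    intro s
    obtain ⟨R, _, g, n, i, hg, ⟨y, rfl⟩, hi⟩ := exists_torus_chart G hr s
    haveI := hg
    haveI := RedRank.isAffineHom_bc G g
    haveI : Smooth (Red.bc g G).hom := MorphismProperty.pullback_snd (P := @Smooth) _ _ inferInstance
    obtain ⟨U, N, hyU, hfg, j, hj⟩ := exists_rc_open (Red.bc g G) (conn_bc G hconn g) i hi y
    haveI : IsMonHom (ActBC.bcCompIso U.ι g G rfl).hom := ActBC.bcCompIso_isMonHom _ _ _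
    refine ⟨U, U.ι ≫ g, (Fin n → ℤ) ⧸ N, inferInstance, hfg, _, inferInstance, ⟨⟨y, hyU⟩, ?_⟩,
      isRC_comp_iso hj (ActBC.bcCompIso U.ι g G rfl)⟩
    rw [Scheme.Hom.comp_apply]
    rfl
  choose Q ϖ M hM hMfg i hϖ hcov hi using hloc
  exact exists_of_local G ϖ (fun s => ⟨s, hcov s⟩) M i hi

end Groth.Agent.RCentre
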