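import Groth.Agent.RCentreLib.SelfCent

/-!
# The centre of a group of unipotent rank zero
-/

set_option autoImplicit false
set_option linter.style.haveILetI false

noncomputable section

universe u

open CategoryTheory CategoryTheory.Limits MonoidalCategory CartesianMonoidalCategory AlgebraicGeometry CoactBr
open scoped MonObj TensorProduct

attribute [-instance] CategoryTheory.Hom.commGroup

namespace Groth.Agent.RCentre

open HomRep (bcEquiv)
open MultEq (LE)

attribute [local instance] CoactBr.braidedAlgSpecOf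

variable {S : Scheme.{u}}

set_option maxHeartbeats 2000000 in
/-- Central points lie in the reductive centre, locally on a chart. -/
theorem le_rc_chart (G : Over S) [GrpObj G] [IsAffineHom G.hom] [Smooth G.hom]
    (hconn : ∀ t : S, ConnectedSpace ↥(pullback G.hom (S.fromSpecResidueField t)))
    (h0 : SGA3x.UnipotentRankZero G) {Z : Over S} [GrpObj Z] {z : Z ⟶ G} (hZ : IsRC z)
    {X : Over S} (g : X ⟶ G) (hg : ∀ (X' : Over S) (x : X' ⟶ X) (h : X' ⟶ G), (x ≫ g) * h = h * (x ≫ g))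
    {R : Type u} [CommRing R] (v : Spec (CommRingCat.of R) ⟶ S) {M : Type} [AddCommGroup M] [Module.Finite ℤ M]
    (i : sp R (MonoidAlgebra R (Multiplicative M)) ⟶ Red.bc v G) (hi : Red.IsMaximalTorus i)
    (p : ↥(Spec (CommRingCat.of R))) :
    ∃ U : (Spec (CommRingCat.of R)).Opens, p ∈ U ∧ LE g z (U.ι ≫ v) := by
  haveI := hi.1; haveI := hi.2.1
  haveI := RedRank.isAffineHom_bc G v
  haveI : Smooth (Red.bc v G).hom := MorphismProperty.pullback_snd (P := @Smooth) _ _ inferInstance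
  obtain ⟨U, N, hpU, hcent, huniv⟩ := exists_local_centre (Red.bc v G) (conn_bc G hconn v) i p
  obtain ⟨hjm, -, -⟩ := facts_incl (R := R) N
  haveI := hjm
  haveI hfg : AddGroup.FG (M ⧸ N) := by
    haveI : Module.Finite ℤ (M ⧸ N) := Module.Finite.of_surjective
      (QuotientAddGroup.mk' N).toIntLinearMap (QuotientAddGroup.mk'_surjective N)
    exact Module.Finite.iff_addGroup_fg.1 inferInstance
  obtain ⟨w, hw, hw'⟩ := TorusField.exists_DS_iso R (M ⧸ N)
  haveI := hw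
  let zR : sp R (MonoidAlgebra R (Multiplicative (M ⧸ N))) ⟶ Red.bc v G := incl R N ≫ i
  haveI : IsMonHom zR := inferInstanceAs (IsMonHom (incl R N ≫ i))
  let c : Red.bc U.ι (Red.bc v G) ≅ Red.bc (U.ι ≫ v) G := ActBC.bcCompIso U.ι v G rfl
  let cZ : Red.bc U.ι (Red.bc v Z) ≅ Red.bc (U.ι ≫ v) Z := ActBC.bcCompIso U.ι v Z rfl
  haveI : IsMonHom c.hom := ActBC.bcCompIso_isMonHom _ _ _
  haveI : IsMonHom c.inv := inferInstance
  haveI hzU := DiagRep.isMonHom_bc_map U.ι zR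
  obtain ⟨a₀, ha₀⟩ := hZ.2.2.2.2 _ (U.ι ≫ v) (Red.bc U.ι (sp R (MonoidAlgebra R (Multiplicative (M ⧸ N)))))
    ((Over.pullback U.ι).map zR ≫ c.hom)
    (DescHom.isMultTypeFT_bc (CentreRed.isMultTypeFT_of_iso _ hfg w) U.ι) fun Y x k => by
      refine (cancel_mono c.inv).1 ?_
      rw [MonObj.mul_comp, MonObj.mul_comp]
      simp only [Category.assoc, Iso.hom_inv_id, Category.comp_id]
      rw [← (bcEquiv U.ι (Red.bc v G) Y).apply_symm_apply (k ≫ c.inv),
        show x ≫ (Over.pullback U.ι).map zR = bcEquiv U.ι (Red.bc v G) Y ((bcEquiv U.ι _ Y).symm x ≫ zR) by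
          rw [Adjunction.homEquiv_naturality_right, Equiv.apply_symm_apply],
        ← HomRep.bcEquiv_mul, ← HomRep.bcEquiv_mul]
      refine congrArg _ (hcent _ ?_ _ _).symm
      rintro _ ⟨y, rfl⟩
      show (Y.hom ≫ U.ι) y ∈ U
      rw [Scheme.Hom.comp_apply]
      exact (Y.hom y).2
  have ha : (a₀ ≫ cZ.inv) ≫ (Over.pullback U.ι).map ((Over.pullback v).map z) = (Over.pullback U.ι).map zR := by
    rw [← cancel_mono c.hom, ← ha₀, Category.assoc, Category.assoc, ActBC.bcCompIso_hom_naturality,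
      Iso.inv_hom_id_assoc]
  refine ⟨U, hpU, fun Y q hq h => ?_⟩
  let Y₁ : Over (U : Scheme.{u}) := Over.mk q
  let Y₂ : Over (Spec (CommRingCat.of R)) := (Over.map U.ι).obj Y₁
  let ε : (Over.map v).obj Y₂ ≅ Y := Over.isoMk (Iso.refl _) (by
    show 𝟙 _ ≫ Y.hom = (q ≫ U.ι) ≫ v
    rw [Category.id_comp, Category.assoc, hq])
  let yR : Y₂ ⟶ Red.bc v G := bcEquiv v G Y₂ (ε.hom ≫ h ≫ g)
  have hyc : ∀ (Y' : Over (Spec (CommRingCat.of R))) (y' : Y' ⟶ Y₂) (k : Y' ⟶ Red.bc v G),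
      (y' ≫ yR) * k = k * (y' ≫ yR) := fun Y' y' k => by
    apply (bcEquiv v G Y').symm.injective
    rw [HomRep.bcEquiv_symm_mul, HomRep.bcEquiv_symm_mul, Adjunction.homEquiv_naturality_left_symm,
      Equiv.symm_apply_apply]
    simpa only [Category.assoc] using hg _ ((Over.map v).map y' ≫ ε.hom ≫ h) ((bcEquiv v G Y').symm k)
  obtain ⟨t, ht⟩ := exists_factor_of_selfCent (Red.bc v G) hi.2.2.1
    (fun p' X' x hx => selfCent_geom G h0 v hi (Red.geomPt p') X' x hx) yR fun Y' y' t => hyc Y' y' (t ≫ i)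
  obtain ⟨t', ht'⟩ := huniv Y₂ t (by
      rintro _ ⟨y, rfl⟩
      show (q ≫ U.ι) y ∈ U
      rw [Scheme.Hom.comp_apply]
      exact (q y).2)
    fun Y' y' k => by rw [ht]; exact hyc Y' y' k
  let a : Y₂ ⟶ Red.bc v Z := (bcEquiv U.ι (Red.bc v Z) Y₁).symm (bcEquiv U.ι _ Y₁ t' ≫ a₀ ≫ cZ.inv)
  have haz : a ≫ (Over.pullback v).map z = yR := by
    rw [← Adjunction.homEquiv_naturality_right_symm, Category.assoc, ha, ← Adjunction.homEquiv_naturality_right,
      Equiv.symm_apply_apply, ← ht, ← ht', Category.assoc]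
  refine ⟨ε.inv ≫ (bcEquiv v Z Y₂).symm a, ?_⟩
  rw [Category.assoc, ← Adjunction.homEquiv_naturality_right_symm, haz, Equiv.symm_apply_apply,
    Iso.inv_hom_id_assoc]

/-- In unipotent rank zero the centre is a reductive centre. -/
theorem exists_centre (G : Over S) [GrpObj G] [IsAffineHom G.hom] [Smooth G.hom]
    (hconn : ∀ s : S, _root_.IsConnected (G.hom.base ⁻¹' {s})) (h0 : SGA3x.UnipotentRankZero G) :
    ∃ (Z : Over S) (_ : GrpObj Z) (z : Z ⟶ G), Red.IsCentre z ∧ IsRC z := by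
  have hconn' := fun t => (conn_fibre_iff G.hom t).1 (hconn t)
  have hr := redRank_of_rankZero G hconn h0
  obtain ⟨Z, _, z, hZ⟩ := exists_rc G hconn' hr
  haveI := hZ.1; haveI := hZ.2.1
  haveI : IsClosedImmersion z.left := Transporter.isClosedImmersion_of_mono (by
    obtain ⟨S', f, h1, h2, h3, hloc⟩ := hZ.2.2.1
    exact ⟨S', f, h1, h2, h3, fun x => by
      obtain ⟨U, hU, M, _, -, h⟩ := hloc x
      exact ⟨U, hU, M, inferInstance, h⟩⟩) ‹IsAffineHom G.hom› z
  refine ⟨Z, inferInstance, z, ⟨hZ.1, hZ.2.1, fun X g => ⟨?_, fun hg => ?_⟩⟩, hZ⟩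
  · rintro ⟨x, rfl⟩ X' y h
    rw [Category.comp_id, ← Category.assoc]
    exact hZ.2.2.2.1 X' (y ≫ x) h
  have hg' : ∀ (X' : Over S) (x : X' ⟶ X) (h : X' ⟶ G), (x ≫ g) * h = h * (x ≫ g) := fun X' x h => by
    simpa using hg X' x h
  have hloc : ∀ s : S, ∃ (Q : Scheme.{u}) (ϖ : Q ⟶ S), Flat ϖ ∧ s ∈ Set.range ϖ ∧ LE g z ϖ := by
    intro s
    obtain ⟨R, _, v, n, i, hv, ⟨p, rfl⟩, hi⟩ := exists_torus_chart G hr s
    haveI := hv
    obtain ⟨U, hpU, hle⟩ := le_rc_chart G hconn' h0 hZ g hg' v i hi p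
    refine ⟨U, U.ι ≫ v, inferInstance, ⟨⟨p, hpU⟩, ?_⟩, hle⟩
    rw [Scheme.Hom.comp_apply]
    rfl
  choose Q ϖ hflat hmem hle using hloc
  have hall : LE g z (𝟙 S) := MultEq.le_of_family ϖ hflat (fun s => ⟨s, hmem s⟩) fun s => by
    rw [Category.comp_id]; exact hle s
  obtain ⟨x, hx⟩ := hall X X.hom (Category.comp_id _) (𝟙 X)
  exact ⟨x, hx.trans (Category.id_comp g)⟩

end Groth.Agent.RCentre
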