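import Groth.Agent.RCentreLib.Torus
import Groth.Agent.BorelLib.Facts
import Groth.Agent.S4149
import Groth.Agent.S4148
import Groth.Agent.S5256

/-!
# The maximal torus of a group with nilpotent fibres
-/

set_option autoImplicit false
set_option linter.style.haveILetI false

noncomputable section

universe u

open CategoryTheory CategoryTheory.Limits MonoidalCategory CartesianMonoidalCategory AlgebraicGeometry CoactBr
open scoped MonObj

attribute [-instance] CategoryTheory.Hom.commGroup

namespace Groth.Agent.RCentre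

attribute [local instance] CoactBr.braidedAlgSpecOf

/-- Tori of a connected nilpotent group over an algebraically closed field are central. -/
theorem torus_central_of_nilpotent {k : Type u} [Field k] [IsAlgClosed k] (G : Over (Spec (CommRingCat.of k)))
    [GrpObj G] [IsAffine G.left] [Smooth G.hom] [ConnectedSpace G.left]
    (hnil : Group.IsNilpotent (𝟙_ (Over (Spec (CommRingCat.of k))) ⟶ G))
    {T : Over (Spec (CommRingCat.of k))} [GrpObj T] (hT : Red.IsTorus T) (j : T ⟶ G) [IsMonHom j] [Mono j]
    (X : Over (Spec (CommRingCat.of k))) (x : X ⟶ T) (g : X ⟶ G) : (x ≫ j) * g = g * (x ≫ j) := by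
  obtain ⟨n, hn⟩ := nilpotent_iff_lowerCentralSeries.1 hnil
  obtain ⟨n', hn'⟩ := BorelLib.isNilpotentGrp_of_points hn
  obtain ⟨M, _, m, hm, -, -, hfac, hcent⟩ := S4149.result k G
    ⟨n', fun X => Subgroup.lowerCentralSeries_eq_bot_iff_upperCentralSeries_eq_top.2 (hn' X)⟩
  obtain ⟨w, hw⟩ := hfac T j (RedRank.isMultTypeFT_of_isTorus hT)
  rw [← hw, ← Category.assoc]
  exact hcent X (x ≫ w) g

variable {S : Scheme.{u}}

/-- Connectedness descends from the geometric fibre. -/
theorem conn_of_geom (G : Over S) (s : S) (h : ConnectedSpace ↥(Red.geomFibre s G).left) :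
    ConnectedSpace ↥(pullback G.hom (S.fromSpecResidueField s)) := by
  let a : Spec (CommRingCat.of (AlgebraicClosure (S.residueField s))) ⟶ Spec (S.residueField s) :=
    Spec.map (CommRingCat.ofHom (algebraMap (S.residueField s) (AlgebraicClosure (S.residueField s))))
  haveI : Surjective a := ⟨fun y => ⟨IsLocalRing.closedPoint _, Subsingleton.elim (α := PrimeSpectrum (S.residueField s)) _ _⟩⟩
  let e : pullback (pullback.snd G.hom (S.fromSpecResidueField s)) a ≅ pullback G.hom (a ≫ S.fromSpecResidueField s) :=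
    pullbackLeftPullbackSndIso G.hom (S.fromSpecResidueField s) a
  haveI : ConnectedSpace ↥(pullback G.hom (a ≫ S.fromSpecResidueField s)) := h
  let φ := Scheme.homeoOfIso e
  haveI : ConnectedSpace ↥(pullback (pullback.snd G.hom (S.fromSpecResidueField s)) a) :=
    φ.symm.surjective.connectedSpace φ.symm.continuous
  let p := pullback.fst (pullback.snd G.hom (S.fromSpecResidueField s)) a
  exact p.surjective.connectedSpace p.continuous

/-- A group with connected nilpotent fibres and locally constant reductive rank has a greatest, central, maximal torus. -/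
theorem exists_central_maximalTorus (G : Over S) [GrpObj G] [IsAffineHom G.hom] [Smooth G.hom]
    (hconn : ∀ s : S, ConnectedSpace ↥(Red.geomFibre s G).left)
    (hnil : ∀ s : S, Group.IsNilpotent
      (𝟙_ (Over (Spec (CommRingCat.of (AlgebraicClosure (S.residueField s))))) ⟶ Red.geomFibre s G))
    (hr : SGA3x.RedRankLocallyConstant G) :
    ∃ (T : Over S) (_ : GrpObj T) (i : T ⟶ G), Red.IsMaximalTorus i ∧
      (∀ (X : Over S) (t : X ⟶ T) (g : X ⟶ G), (t ≫ i) * g = g * (t ≫ i)) ∧
      ∀ (R : Over S) [GrpObj R] (j : R ⟶ G) [IsMonHom j] [Mono j], Red.IsTorus R → ∃ f : R ⟶ T, f ≫ i = j := by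
  obtain ⟨Z, _, z, hzm, hzmono, hZ, hzc, huniv⟩ := exists_rc G (fun s => conn_of_geom G s (hconn s)) hr
  haveI := hzm; haveI := hzmono
  obtain ⟨T, _, t₀, ht₀, hfac⟩ := S4148.result S Z hZ
  haveI := ht₀.1; haveI := ht₀.2.1
  have hgeom : ∀ (s : S) {T' : Over (Spec (CommRingCat.of (AlgebraicClosure (S.residueField s))))} [GrpObj T']
      (j : T' ⟶ Red.geomFibre s G) [IsMonHom j] [Mono j], Red.IsTorus T' →
      ∀ X (x : X ⟶ T') (g : X ⟶ Red.geomFibre s G), (x ≫ j) * g = g * (x ≫ j) := fun s T' _ j _ _ hT' => by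
    haveI := RedRank.isAffineHom_bc G (Red.geomPt s)
    haveI : Smooth (Red.geomFibre s G).hom := MorphismProperty.pullback_snd (P := @Smooth) _ _ inferInstance
    haveI : IsAffine (Red.geomFibre s G).left := isAffine_of_isAffineHom (Red.geomFibre s G).hom
    haveI := hconn s
    exact torus_central_of_nilpotent (Red.geomFibre s G) (hnil s) hT' j
  refine ⟨T, inferInstance, t₀ ≫ z, ⟨inferInstance, inferInstance, ht₀.2.2.1, fun s T' _ j _ _ f hT' hf => ?_⟩,
    fun X t g => ?_, fun R _ j _ _ hR => ?_⟩
  · obtain ⟨w, hw⟩ := huniv _ (Red.geomPt s) T' j (RedRank.isMultTypeFT_of_isTorus hT') (hgeom s j hT')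
    haveI : Mono (w ≫ (Over.pullback (Red.geomPt s)).map z) := hw.symm ▸ inferInstance
    haveI : Mono w := mono_of_mono w ((Over.pullback (Red.geomPt s)).map z)
    haveI : Mono ((Over.pullback (Red.geomPt s)).map z) := by
      haveI : (Over.pullback (Red.geomPt s)).IsRightAdjoint := (Over.mapPullbackAdj _).isRightAdjoint
      infer_instance
    haveI hmz := DiagRep.isMonHom_bc_map (Red.geomPt s) z
    haveI : IsMonHom (w ≫ (Over.pullback (Red.geomPt s)).map z) := hw.symm ▸ inferInstance
    haveI : IsMonHom (M := T') (N := Red.geomFibre s Z) w :=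
      DiagRep.isMonHom_of_comp_mono w ((Over.pullback (Red.geomPt s)).map z)
    refine ht₀.2.2.2 s T' w f hT' ?_
    rw [← cancel_mono ((Over.pullback (Red.geomPt s)).map z), Category.assoc, hw, hf, Functor.map_comp]
  · rw [← Category.assoc]
    exact hzc X (t ≫ t₀) g
  · have hjc : ∀ (X : Over S) (x : X ⟶ R) (g : X ⟶ G), (x ≫ j) * g = g * (x ≫ j) := by
      have h := S5256.result R G (RedRank.isMultTypeFT_of_isTorus hR) j fun s X g h => by
        have hc : CentLocus.CentAt j (S.fromSpecResidueField s) := by
          haveI hjm := DiagRep.isMonHom_bc_map (Red.geomPt s) j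
          haveI : Mono ((Over.pullback (Red.geomPt s)).map j) := by
            haveI : (Over.pullback (Red.geomPt s)).IsRightAdjoint := (Over.mapPullbackAdj _).isRightAdjoint
            infer_instance
          have h1 : CentLocus.CentAt j (Red.geomPt s) := (CentLocus.centAt_bc_iff j _).2 fun Y g y =>
            hgeom s ((Over.pullback (Red.geomPt s)).map j) (RedRank.isTorus_bc hR _) Y y g
          exact RedRank.geomPt_apply s ▸ (TrivLocus.triv_field_iff (Red.geomPt s)).1 h1
        exact ((CentLocus.centAt_bc_iff j _).1 hc X g h).symm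
      exact fun X x g => (h X g x).symm
    let eG : Red.bc (𝟙 S) G ≅ G := (Over.pullbackId (X := S)).app G
    haveI : IsMonHom eG.hom := CartanMult.isMonHom_pullbackId G
    haveI : IsMonHom eG.inv := inferInstance
    obtain ⟨w, hw⟩ := huniv S (𝟙 S) R (j ≫ eG.inv) (RedRank.isMultTypeFT_of_isTorus hR) fun X x g => by
      refine (cancel_mono eG.hom).1 ?_
      rw [MonObj.mul_comp, MonObj.mul_comp, Category.assoc, Category.assoc, eG.inv_hom_id, Category.comp_id]
      exact hjc X x (g ≫ eG.hom)
    let w' : R ⟶ Z := w ≫ ((Over.pullbackId (X := S)).app Z).hom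
    have hw' : w' ≫ z = j := by
      have nat : (Over.pullback (𝟙 _)).map z ≫ eG.hom = ((Over.pullbackId (X := S)).app Z).hom ≫ z :=
        (Over.pullbackId (X := S)).hom.naturality z
      rw [Category.assoc, ← nat, ← Category.assoc, hw, Category.assoc, eG.inv_hom_id, Category.comp_id]
    haveI : IsMonHom (w' ≫ z) := hw'.symm ▸ inferInstance
    haveI : Mono (w' ≫ z) := hw'.symm ▸ inferInstance
    haveI : IsMonHom w' := DiagRep.isMonHom_of_comp_mono w' z
    haveI : Mono w' := mono_of_mono w' z
    obtain ⟨f, hf⟩ := hfac R w' hR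
    exact ⟨f, by rw [reassoc_of% hf, hw']⟩

end Groth.Agent.RCentre
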