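import Groth.Agent.DiagRepLib.Scheme
import Groth.Agent.DiagRepLib.Coords
import Groth.Agent.BorelLib.Pts
import Groth.Agent.AlgSpLib.ReducedSmooth
import Groth.Prelude

/-!
# Centrality of points of a split torus in terms of the weights of the conjugation
-/

set_option autoImplicit false
set_option linter.style.haveILetI false
set_option backward.isDefEq.respectTransparency false

noncomputable section

universe u

open CategoryTheory CategoryTheory.Limits MonoidalCategory CartesianMonoidalCategory AlgebraicGeometry CoactBr WithConv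
open scoped MonObj TensorProduct

attribute [-instance] CategoryTheory.Hom.commGroup

namespace Groth.Agent.RCentre

attribute [local instance] CoactBr.braidedAlgSpecOf

variable {R : Type u} [CommRing R]

/-- Global functions of a scheme over an affine base form an algebra. -/
@[reducible] def algΓ (X : Over (Spec (CommRingCat.of R))) : Algebra R Γ(X.left, ⊤) :=
  ((Scheme.ΓSpecIso (CommRingCat.of R)).inv ≫ X.hom.appTop).hom.toAlgebra

attribute [local instance] algΓ

theorem toSpecΓ_alg (X : Over (Spec (CommRingCat.of R))) :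
    X.left.toSpecΓ ≫ Spec.map (CommRingCat.ofHom (algebraMap R Γ(X.left, ⊤))) = X.hom := by
  rw [show CommRingCat.ofHom (algebraMap R Γ(X.left, ⊤)) =
    (Scheme.ΓSpecIso (CommRingCat.of R)).inv ≫ X.hom.appTop from rfl, Spec.map_comp,
    ← Scheme.toSpecΓ_naturality_assoc, toSpecΓ_SpecMap_ΓSpecIso_inv, Category.comp_id]

/-- The canonical point with values in the spectrum of the global functions. -/
def toSp (X : Over (Spec (CommRingCat.of R))) : X ⟶ sp R Γ(X.left, ⊤) :=
  Over.homMk X.left.toSpecΓ (toSpecΓ_alg X)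

section fn

variable {A : Type u} [CommRing A]

theorem appTop_toSpecΓ_comp {X : Scheme.{u}} {B : CommRingCat.{u}} (r : B ⟶ Γ(X, ⊤)) :
    (Scheme.ΓSpecIso B).inv ≫ (X.toSpecΓ ≫ Spec.map r).appTop = r := by
  rw [Scheme.Hom.comp_appTop, ← Scheme.ΓSpecIso_inv_naturality_assoc, Scheme.toSpecΓ_appTop, Iso.inv_hom_id,
    Category.comp_id]

theorem fn_unique [Algebra R A] {X : Over (Spec (CommRingCat.of R))} {φ φ' : A →ₐ[R] Γ(X.left, ⊤)}
    (h : toSp X ≫ pt φ = toSp X ≫ pt φ') : φ = φ' := by
  refine AlgHom.coe_ringHom_injective ?_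
  have h1 : X.left.toSpecΓ ≫ Spec.map (CommRingCat.ofHom φ.toRingHom) =
      X.left.toSpecΓ ≫ Spec.map (CommRingCat.ofHom φ'.toRingHom) := congrArg Over.Hom.left h
  exact congrArg CommRingCat.Hom.hom
    ((appTop_toSpecΓ_comp (CommRingCat.ofHom φ.toRingHom)).symm.trans
      ((congrArg (fun q => (Scheme.ΓSpecIso (CommRingCat.of A)).inv ≫ Scheme.Hom.appTop q) h1).trans
        (appTop_toSpecΓ_comp (CommRingCat.ofHom φ'.toRingHom))))

theorem exists_fn [Algebra R A] {X : Over (Spec (CommRingCat.of R))} (g : X ⟶ sp R A) :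
    ∃ φ : A →ₐ[R] Γ(X.left, ⊤), toSp X ≫ pt φ = g := by
  let g' : X.left ⟶ Spec (CommRingCat.of A) := g.left
  let r : CommRingCat.of A ⟶ Γ(X.left, ⊤) := (Scheme.ΓSpecIso (CommRingCat.of A)).inv ≫ g'.appTop
  have hr : CommRingCat.ofHom (algebraMap R A) ≫ r = CommRingCat.ofHom (algebraMap R Γ(X.left, ⊤)) := by
    show _ ≫ (Scheme.ΓSpecIso (CommRingCat.of A)).inv ≫ g'.appTop =
      (Scheme.ΓSpecIso (CommRingCat.of R)).inv ≫ X.hom.appTop
    rw [← Category.assoc, Scheme.ΓSpecIso_inv_naturality, Category.assoc, ← Scheme.Hom.comp_appTop]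
    congr 2
    exact Over.w g
  refine ⟨{ r.hom with commutes' := fun c => congrArg (fun q => (ConcreteCategory.hom q) c) hr }, ?_⟩
  refine Over.OverMorphism.ext ?_
  show X.left.toSpecΓ ≫ Spec.map r = g'
  rw [Spec.map_comp, ← Scheme.toSpecΓ_naturality_assoc, toSpecΓ_SpecMap_ΓSpecIso_inv,
    Category.comp_id]

/-- The functions of a point. -/
def fn [Algebra R A] {X : Over (Spec (CommRingCat.of R))} (g : X ⟶ sp R A) : A →ₐ[R] Γ(X.left, ⊤) :=
  (exists_fn g).choose

theorem toSp_fn [Algebra R A] {X : Over (Spec (CommRingCat.of R))} (g : X ⟶ sp R A) :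
    toSp X ≫ pt (fn g) = g := (exists_fn g).choose_spec

theorem fn_one [Bialgebra R A] (X : Over (Spec (CommRingCat.of R))) :
    fn (1 : X ⟶ sp R A) = (Algebra.ofId R _).comp (Bialgebra.counitAlgHom R A) := by
  refine fn_unique ?_
  rw [toSp_fn]
  exact ((MonObj.comp_one (toSp X)).symm.trans (congrArg (toSp X ≫ ·) DiagRep.pt_one.symm))

end fn

/-- A faithfully flat localisation kills no scalars. -/
theorem eq_zero_of_tmul_eq_zero {A B : Type u} [CommRing A] [Algebra R A] [Module.Flat R A] [CommRing B]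
    [Algebra R B] {a : A}
    (h : ∀ p : PrimeSpectrum B, ∃ q : PrimeSpectrum A, a ∉ q.asIdeal ∧
      q.comap (algebraMap R A) = p.comap (algebraMap R B))
    {r : B} (hr : a ⊗ₜ[R] r = 0) : r = 0 := by
  let Aa := Localization.Away a
  haveI : Module.Flat A Aa := IsLocalization.flat Aa (Submonoid.powers a)
  haveI : Module.Flat R Aa := Module.Flat.trans R A Aa
  haveI : Module.FaithfullyFlat B (B ⊗[R] Aa) := by
    refine Module.FaithfullyFlat.of_comap_surjective fun p => ?_
    obtain ⟨q, hq, hqp⟩ := h p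
    obtain ⟨q', hq'⟩ : ∃ q' : PrimeSpectrum Aa, q'.comap (algebraMap A Aa) = q := by
      have : q ∈ Set.range (PrimeSpectrum.comap (algebraMap A Aa)) := by
        rw [PrimeSpectrum.localization_away_comap_range Aa a]
        exact hq
      exact this
    let f : Spec (CommRingCat.of B) ⟶ Spec (CommRingCat.of R) := Spec.map (CommRingCat.ofHom (algebraMap R B))
    let g : Spec (CommRingCat.of Aa) ⟶ Spec (CommRingCat.of R) := Spec.map (CommRingCat.ofHom (algebraMap R Aa))
    have hfg : f p = g q' := by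
      show p.comap (algebraMap R B) = q'.comap (algebraMap R Aa)
      rw [← hqp, ← hq', ← PrimeSpectrum.comap_comp_apply, ← IsScalarTower.algebraMap_eq]
    obtain ⟨y, hy, -⟩ := Scheme.Pullback.exists_preimage_pullback (f := f) (g := g) p q' hfg
    refine ⟨(pullbackSpecIso R B Aa).hom y, ?_⟩
    have := congrArg (fun m => m y) (pullbackSpecIso_hom_fst R B Aa)
    exact this.trans hy
  have h1 := congrArg (fun z => Algebra.TensorProduct.map (AlgHom.id R B) (IsScalarTower.toAlgHom R A Aa)
    (Algebra.TensorProduct.comm R A B z)) hr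
  simp only [Algebra.TensorProduct.comm_tmul, Algebra.TensorProduct.map_tmul, AlgHom.id_apply, map_zero,
    IsScalarTower.coe_toAlgHom'] at h1
  obtain ⟨u, hu⟩ : IsUnit (algebraMap A Aa a) := IsLocalization.Away.algebraMap_isUnit a
  have h2 : r ⊗ₜ[R] (1 : Aa) = 0 := by
    have := congrArg (· * ((1 : B) ⊗ₜ[R] (↑u⁻¹ : Aa))) h1
    simpa [Algebra.TensorProduct.tmul_mul_tmul, ← hu] using this
  exact FaithfulSMul.algebraMap_injective B (B ⊗[R] Aa) ((show algebraMap B (B ⊗[R] Aa) r = 0 from h2).trans
    (map_zero _).symm)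

/-- A function which does not vanish on a geometric fibre of a smooth affine scheme is invertible somewhere on it. -/
theorem exists_prime_of_ne_zero {A K : Type u} [CommRing A] [Algebra R A] [Field K] [IsAlgClosed K] [Algebra R K]
    [Smooth (sp R A).hom] {a : A} (ha : a ⊗ₜ[R] (1 : K) ≠ 0) :
    ∃ q : PrimeSpectrum A, a ∉ q.asIdeal ∧
      q.comap (algebraMap R A) = (IsLocalRing.closedPoint K).comap (algebraMap R K) := by
  haveI hft : Algebra.FiniteType R A := by
    have h : LocallyOfFiniteType (sp R A).hom := inferInstance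
    change LocallyOfFiniteType (Spec.map (CommRingCat.ofHom (algebraMap R A))) at h
    rwa [HasRingHomProperty.Spec_iff (P := @LocallyOfFiniteType), CommRingCat.hom_ofHom,
      RingHom.finiteType_algebraMap] at h
  haveI : _root_.IsReduced (K ⊗[R] A) := by
    haveI : Smooth (Spec.map (CommRingCat.ofHom (algebraMap R A))) := ‹Smooth (sp R A).hom›
    haveI : Smooth (pullback.fst (Spec.map (CommRingCat.ofHom (algebraMap R K)))
        (Spec.map (CommRingCat.ofHom (algebraMap R A)))) := MorphismProperty.pullback_fst (P := @Smooth) _ _ inferInstance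
    haveI := AlgSpLib.isReduced_of_smooth (pullback.fst (Spec.map (CommRingCat.ofHom (algebraMap R K)))
      (Spec.map (CommRingCat.ofHom (algebraMap R A))))
    haveI : AlgebraicGeometry.IsReduced (Spec (CommRingCat.of (K ⊗[R] A))) :=
      isReduced_of_isOpenImmersion (pullbackSpecIso R K A).inv
    exact (affine_isReduced_iff (CommRingCat.of (K ⊗[R] A))).mp inferInstance
  haveI : Algebra.FiniteType K (K ⊗[R] A) := inferInstance
  have hne : (1 : K) ⊗ₜ[R] a ≠ 0 := fun h => ha (by
    have := congrArg (Algebra.TensorProduct.comm R K A) h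
    simpa using this)
  obtain ⟨x, hx⟩ := BorelLib.exists_pt_ne (k := K) (fun hn => hne (isNilpotent_iff_eq_zero.1 hn))
  let φ : A →ₐ[R] K := (x.ofConv.restrictScalars R).comp Algebra.TensorProduct.includeRight
  refine ⟨(IsLocalRing.closedPoint K).comap φ.toRingHom, fun h => hx ?_, ?_⟩
  · have h' : φ a ∈ IsLocalRing.maximalIdeal K := h
    rw [IsLocalRing.maximalIdeal_eq_bot, Ideal.mem_bot] at h'
    exact h'
  · rw [← PrimeSpectrum.comap_comp_apply]
    congr 1
    exact φ.comp_algebraMap

section weights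

variable {A : Type u} [CommRing A] [HopfAlgebra R A] {M : Type} [AddCommGroup M]
  (i : sp R (MonoidAlgebra R (Multiplicative M)) ⟶ sp R A)

/-- The character attached to a weight. -/
abbrev chi (R : Type u) [CommRing R] {M : Type} (m : M) : MonoidAlgebra R (Multiplicative M) :=
  MonoidAlgebra.single (Multiplicative.ofAdd m) 1

/-- Conjugation by the universal point of the torus. -/
def conjPt : sp R (A ⊗[R] MonoidAlgebra R (Multiplicative M)) ⟶ sp R A :=
  (pt (Algebra.TensorProduct.includeRight : MonoidAlgebra R (Multiplicative M) →ₐ[R]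
      A ⊗[R] MonoidAlgebra R (Multiplicative M)) ≫ i) *
    pt (Algebra.TensorProduct.includeLeft : A →ₐ[R] A ⊗[R] MonoidAlgebra R (Multiplicative M)) *
    (pt (Algebra.TensorProduct.includeRight : MonoidAlgebra R (Multiplicative M) →ₐ[R]
      A ⊗[R] MonoidAlgebra R (Multiplicative M)) ≫ i)⁻¹

/-- The coaction. -/
def coact : A →ₐ[R] A ⊗[R] MonoidAlgebra R (Multiplicative M) := (DiagRep.exists_pt (conjPt i)).choose

theorem pt_coact : pt (coact i) = conjPt i := (DiagRep.exists_pt (conjPt i)).choose_spec.symm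

theorem pair_coact {Q : Type u} [CommRing Q] [Algebra R Q] {Y : Over (Spec (CommRingCat.of R))} (P : Y ⟶ sp R Q)
    (α : A →ₐ[R] Q) (β : MonoidAlgebra R (Multiplicative M) →ₐ[R] Q) :
    P ≫ pt ((Algebra.TensorProduct.lift α β fun _ _ => Commute.all _ _).comp (coact i)) =
      (P ≫ pt β ≫ i) * (P ≫ pt α) * (P ≫ pt β ≫ i)⁻¹ := by
  rw [pt_comp, pt_coact, conjPt]
  simp only [MonObj.comp_mul, GrpObj.comp_inv]
  have hR : pt (Algebra.TensorProduct.lift α β fun _ _ => Commute.all _ _) ≫
      pt (Algebra.TensorProduct.includeRight : MonoidAlgebra R (Multiplicative M) →ₐ[R]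
        A ⊗[R] MonoidAlgebra R (Multiplicative M)) = pt β := by
    rw [← pt_comp]
    congr 1
    exact AlgHom.ext fun x => by simp
  have hL : pt (Algebra.TensorProduct.lift α β fun _ _ => Commute.all _ _) ≫
      pt (Algebra.TensorProduct.includeLeft : A →ₐ[R] A ⊗[R] MonoidAlgebra R (Multiplicative M)) = pt α := by
    rw [← pt_comp]
    congr 1
    exact AlgHom.ext fun x => by simp
  rw [reassoc_of% hR, hL]

/-- The weight components. -/
def wt (a : A) : Multiplicative M →₀ A :=
  (TensorProduct.eq_repr_basis_right (MonoidAlgebra.basis (Multiplicative M) R) (coact i a)).choose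

theorem coact_eq (a : A) : (wt i a).sum (fun m w => w ⊗ₜ[R] MonoidAlgebra.basis (Multiplicative M) R m) = coact i a :=
  (TensorProduct.eq_repr_basis_right (MonoidAlgebra.basis (Multiplicative M) R) (coact i a)).choose_spec

theorem lift_coact {Q : Type u} [CommRing Q] [Algebra R Q] (α : A →ₐ[R] Q)
    (β : MonoidAlgebra R (Multiplicative M) →ₐ[R] Q) (a : A) :
    Algebra.TensorProduct.lift α β (fun _ _ => Commute.all _ _) (coact i a) =
      (wt i a).sum fun m w => α w * β (MonoidAlgebra.single m 1) := by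
  rw [← coact_eq i a, Finsupp.sum, map_sum]
  refine Finset.sum_congr rfl fun m _ => ?_
  simp

variable [IsMonHom i]

/-- Points annihilating all weight differences are central. -/
theorem mul_comm_of_weights {Y : Over (Spec (CommRingCat.of R))} (t : Y ⟶ sp R (MonoidAlgebra R (Multiplicative M)))
    (h : ∀ (a : A) (m : Multiplicative M), wt i a m ⊗ₜ[R] (fn t (MonoidAlgebra.single m 1) - 1) = 0)
    (g : Y ⟶ sp R A) : (t ≫ i) * g = g * (t ≫ i) := by
  have key : (Algebra.TensorProduct.lift (fn g) (fn t) fun _ _ => Commute.all _ _).comp (coact i) =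
      (Algebra.TensorProduct.lift (fn g) (fn (1 : Y ⟶ sp R (MonoidAlgebra R (Multiplicative M))))
        fun _ _ => Commute.all _ _).comp (coact i) := by
    refine AlgHom.ext fun a => ?_
    rw [AlgHom.comp_apply, AlgHom.comp_apply, lift_coact, lift_coact, fn_one]
    refine Finset.sum_congr rfl fun m _ => ?_
    have h1 := congrArg (Algebra.TensorProduct.lift (fn g) (AlgHom.id R _) fun _ _ => Commute.all _ _) (h a m)
    simp only [Algebra.TensorProduct.lift_tmul, AlgHom.id_apply, map_zero, mul_sub, _root_.mul_one, sub_eq_zero] at h1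
    simp [h1, MonoidAlgebra.counit_single]
  have h1 := pair_coact i (toSp Y) (fn g) (fn t)
  rw [key, pair_coact, ← Category.assoc, ← Category.assoc, toSp_fn, toSp_fn, toSp_fn, MonObj.one_comp, inv_one,
    _root_.one_mul, _root_.mul_one] at h1
  exact (eq_mul_inv_iff_mul_eq.1 h1).symm

/-- Central points of the torus annihilate all weight differences. -/
theorem weights_of_central {B : Type u} [CommRing B] [Algebra R B]
    (τ : MonoidAlgebra R (Multiplicative M) →ₐ[R] B)
    (h : ∀ (Y : Over (Spec (CommRingCat.of R))) (y : Y ⟶ sp R B) (g : Y ⟶ sp R A),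
      (y ≫ pt τ ≫ i) * g = g * (y ≫ pt τ ≫ i)) (a : A) (m : Multiplicative M) :
    wt i a m ⊗ₜ[R] (τ (MonoidAlgebra.single m 1) - 1) = 0 := by
  classical
  let fa : A →ₐ[R] ((A ⊗[R] B) ⊗[R] MonoidAlgebra R (Multiplicative M)) := (Algebra.TensorProduct.includeLeft).comp Algebra.TensorProduct.includeLeft
  let ib : B →ₐ[R] ((A ⊗[R] B) ⊗[R] MonoidAlgebra R (Multiplicative M)) := (Algebra.TensorProduct.includeLeft).comp Algebra.TensorProduct.includeRight
  let fb : MonoidAlgebra R (Multiplicative M) →ₐ[R] ((A ⊗[R] B) ⊗[R] MonoidAlgebra R (Multiplicative M)) := Algebra.TensorProduct.includeRight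
  let fc : MonoidAlgebra R (Multiplicative M) →ₐ[R] ((A ⊗[R] B) ⊗[R] MonoidAlgebra R (Multiplicative M)) := (toConv (ib.comp τ) * toConv fb).ofConv
  have hcy := h (sp R ((A ⊗[R] B) ⊗[R] MonoidAlgebra R (Multiplicative M))) (pt ib) ((pt fb ≫ i) * pt fa * (pt fb ≫ i)⁻¹)
  rw [← Category.assoc, ← pt_comp] at hcy
  have heq : (Algebra.TensorProduct.lift fa fc fun _ _ => Commute.all _ _).comp (coact i) =
      (Algebra.TensorProduct.lift fa fb fun _ _ => Commute.all _ _).comp (coact i) := by
    refine pt_injective ?_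
    have h1 := pair_coact i (𝟙 (sp R ((A ⊗[R] B) ⊗[R] MonoidAlgebra R (Multiplicative M)))) fa fc
    have h2 := pair_coact i (𝟙 (sp R ((A ⊗[R] B) ⊗[R] MonoidAlgebra R (Multiplicative M)))) fa fb
    simp only [Category.id_comp] at h1 h2
    rw [h1, h2, ← DiagRep.pt_mul_conv, MonObj.mul_comp, mul_inv_rev]
    generalize pt (ib.comp τ) ≫ i = x at hcy ⊢
    generalize pt fb ≫ i = y at hcy ⊢
    calc x * y * pt fa * (y⁻¹ * x⁻¹) = x * (y * pt fa * y⁻¹) * x⁻¹ := by group
      _ = y * pt fa * y⁻¹ := by rw [hcy, mul_inv_cancel_right]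
  have hfc : ∀ n : Multiplicative M, fc (MonoidAlgebra.single n 1) =
      ((1 : A) ⊗ₜ[R] τ (MonoidAlgebra.single n 1)) ⊗ₜ[R] MonoidAlgebra.single n (1 : R) := fun n => by
    show (toConv (ib.comp τ) * toConv fb) (MonoidAlgebra.single n 1) = _
    rw [MonoidAlgebra.convMul_algHom_single_one]
    show ((1 : A) ⊗ₜ[R] τ (MonoidAlgebra.single n 1)) ⊗ₜ[R] (1 : MonoidAlgebra R (Multiplicative M)) *
      (1 : A ⊗[R] B) ⊗ₜ[R] MonoidAlgebra.single n (1 : R) = _
    rw [Algebra.TensorProduct.tmul_mul_tmul, _root_.mul_one, _root_.one_mul]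
  have h3 := DFunLike.congr_fun heq a
  rw [AlgHom.comp_apply, AlgHom.comp_apply, lift_coact, lift_coact] at h3
  let co : ((A ⊗[R] B) ⊗[R] MonoidAlgebra R (Multiplicative M)) →ₗ[R] A ⊗[R] B := (TensorProduct.rid R (A ⊗[R] B)).toLinearMap ∘ₗ
    TensorProduct.map LinearMap.id ((MonoidAlgebra.basis (Multiplicative M) R).coord m)
  have h4 := congrArg co h3
  simp only [Finsupp.sum, map_sum, hfc, fa, fb, co, AlgHom.comp_apply, Algebra.TensorProduct.includeLeft_apply,
    Algebra.TensorProduct.includeRight_apply, Algebra.TensorProduct.tmul_mul_tmul, _root_.mul_one, _root_.one_mul,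
    LinearMap.comp_apply, TensorProduct.map_tmul, LinearMap.id_apply, LinearEquiv.coe_coe, TensorProduct.rid_tmul,
    Module.Basis.coord_apply] at h4
  have hb : ∀ n : Multiplicative M, (MonoidAlgebra.basis (Multiplicative M) R).repr (MonoidAlgebra.single n 1) m =
      if n = m then 1 else 0 := fun n => by
    rw [← MonoidAlgebra.basis_apply, Module.Basis.repr_self, Finsupp.single_apply]
  simp only [hb, ite_smul, one_smul, zero_smul, Finset.sum_ite_eq'] at h4
  by_cases hm : m ∈ (wt i a).support
  · rw [if_pos hm, if_pos hm] at h4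
    rw [TensorProduct.tmul_sub, h4, sub_self]
  · rw [Finsupp.notMem_support_iff.1 hm, TensorProduct.zero_tmul]

/-- The weights which do not vanish on the fibre with values in `K`. -/
def Wts (K : Type u) [CommRing K] [Algebra R K] : AddSubgroup M :=
  AddSubgroup.closure {m | ∃ a, wt i a (Multiplicative.ofAdd m) ⊗ₜ[R] (1 : K) ≠ 0}

/-- Near a point, the weights of the central points of the torus are the weights at the point. -/
theorem exists_nhd_weights [Smooth (sp R A).hom] [Module.Finite ℤ M] {K : Type u} [Field K] [IsAlgClosed K]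
    [Algebra R K] :
    ∃ U : TopologicalSpace.Opens (PrimeSpectrum R), (IsLocalRing.closedPoint K).comap (algebraMap R K) ∈ U ∧
      ∀ (B : Type u) [CommRing B] [Algebra R B] (τ : MonoidAlgebra R (Multiplicative M) →ₐ[R] B),
        (∀ p : PrimeSpectrum B, p.comap (algebraMap R B) ∈ U) →
        (∀ (a : A) (m : Multiplicative M), wt i a m ⊗ₜ[R] (τ (MonoidAlgebra.single m 1) - 1) = 0) →
        ∀ n ∈ Wts i K, τ (chi R n) = 1 := by
  classical
  haveI : IsNoetherian ℤ M := isNoetherian_of_isNoetherianRing_of_finite ℤ M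
  let G₀ : Set M := {m | ∃ a, wt i a (Multiplicative.ofAdd m) ⊗ₜ[R] (1 : K) ≠ 0}
  obtain ⟨F, hF, hspan⟩ : ∃ F : Finset M, (↑F : Set M) ⊆ G₀ ∧ Submodule.span ℤ (↑F : Set M) = Submodule.span ℤ G₀ :=
    Submodule.fg_span_iff_fg_span_finset_subset G₀ |>.1 (IsNoetherian.noetherian _)
      |>.imp fun F hF => ⟨hF.1, hF.2.symm⟩
  choose a ha using fun m : F => hF m.2
  haveI : Flat (Spec.map (CommRingCat.ofHom (algebraMap R A))) := (inferInstance : Flat (sp R A).hom)
  haveI : LocallyOfFinitePresentation (Spec.map (CommRingCat.ofHom (algebraMap R A))) :=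
    (inferInstance : LocallyOfFinitePresentation (sp R A).hom)
  haveI : Module.Flat R A := by
    have h : Flat (Spec.map (CommRingCat.ofHom (algebraMap R A))) := inferInstance
    rw [HasRingHomProperty.Spec_iff (P := @Flat)] at h
    exact RingHom.flat_algebraMap_iff.1 h
  let D : F → Set (PrimeSpectrum R) := fun m =>
    PrimeSpectrum.comap (algebraMap R A) ''
      (PrimeSpectrum.basicOpen (wt i (a m) (Multiplicative.ofAdd m.1)) : Set (PrimeSpectrum A))
  have hopen : IsOpen (⋂ m, D m) := isOpen_iInter_of_finite fun m =>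
    (Spec.map (CommRingCat.ofHom (algebraMap R A))).isOpenMap _ (PrimeSpectrum.basicOpen _).isOpen
  refine ⟨⟨⋂ m, D m, hopen⟩, Set.mem_iInter.2 fun m => ?_, fun B _ _ τ hB hτ => ?_⟩
  · obtain ⟨q, hq, hqK⟩ := exists_prime_of_ne_zero (K := K) (ha m)
    exact ⟨q, hq, hqK⟩
  let W : AddSubgroup M :=
    { carrier := {n | τ (chi R n) = 1}
      zero_mem' := map_one τ
      add_mem' := fun {x y} hx hy => by
        show τ (MonoidAlgebra.single (Multiplicative.ofAdd x * Multiplicative.ofAdd y) 1) = 1
        rw [← _root_.one_mul (1 : R), ← MonoidAlgebra.single_mul_single, map_mul]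
        exact (congrArg₂ (· * ·) hx hy).trans (_root_.one_mul 1)
      neg_mem' := fun {x} hx => by
        have h1 : τ (chi R (-x)) * τ (chi R x) = 1 := by
          rw [← map_mul, MonoidAlgebra.single_mul_single, _root_.one_mul, ← ofAdd_add, neg_add_cancel]
          exact map_one τ
        rwa [show τ (chi R x) = 1 from hx, _root_.mul_one] at h1 }
  have hFW : ∀ m ∈ F, m ∈ W := fun m hm => by
    refine sub_eq_zero.1 (eq_zero_of_tmul_eq_zero (fun p => ?_) (hτ (a ⟨m, hm⟩) (Multiplicative.ofAdd m)))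
    obtain ⟨q, hq, hqp⟩ := Set.mem_iInter.1 (hB p) ⟨m, hm⟩
    exact ⟨q, hq, hqp⟩
  intro n hn
  have h1 : n ∈ Submodule.span ℤ (↑F : Set M) := by
    rw [hspan, ← Submodule.mem_toAddSubgroup, Submodule.span_int_eq_addSubgroupClosure]
    exact hn
  rw [← Submodule.mem_toAddSubgroup, Submodule.span_int_eq_addSubgroupClosure] at h1
  exact (AddSubgroup.closure_le W).2 hFW h1

/-- Points over the given geometric point killing its weights are central. -/
theorem weights_eq_zero {K : Type u} [Field K] [Algebra R K] {Y : Over (Spec (CommRingCat.of R))}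
    (ψ : Y ⟶ sp R K) (t : Y ⟶ sp R (MonoidAlgebra R (Multiplicative M)))
    (ht : ∀ n ∈ Wts i K, fn t (chi R n) = 1) (a : A) (m : Multiplicative M) :
    wt i a m ⊗ₜ[R] (fn t (MonoidAlgebra.single m 1) - 1) = 0 := by
  by_cases h : Multiplicative.toAdd m ∈ Wts i K
  · have h1 : fn t (MonoidAlgebra.single m 1) = 1 := ht _ h
    rw [h1, sub_self, TensorProduct.tmul_zero]
  · have h0 : wt i a m ⊗ₜ[R] (1 : K) = 0 := by
      by_contra hne
      exact h (AddSubgroup.subset_closure ⟨a, hne⟩)
    have h1 := congrArg (fun z => Algebra.TensorProduct.map (AlgHom.id R A) (fn ψ) z *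
      ((1 : A) ⊗ₜ[R] (fn t (MonoidAlgebra.single m 1) - 1))) h0
    simpa [Algebra.TensorProduct.tmul_mul_tmul] using h1

end weights

end Groth.Agent.RCentre
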