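import Groth.Agent.RCentreLib.Weights
import Groth.Agent.MultTorusLib.Diag
import Groth.Agent.MultTorusLib.Torus
import Groth.Agent.CentreRedLib.Main
import Groth.Agent.CentLocusLib.Global
import Groth.Agent.S5295
import Groth.Agent.DeligneKillLib.Affine
import Groth.Agent.RedRankLib.Max

/-!
# The central part of a split torus near a point
-/

set_option autoImplicit false
set_option linter.style.haveILetI false
set_option backward.isDefEq.respectTransparency false

noncomputable section

universe u

open CategoryTheory CategoryTheory.Limits MonoidalCategory CartesianMonoidalCategory AlgebraicGeometry CoactBr WithConv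
open scoped MonObj TensorProduct

attribute [-instance] CategoryTheory.Hom.commGroup

namespace Groth.Agent.RCentre

attribute [local instance] CoactBr.braidedAlgSpecOf algΓ

variable {R : Type u} [CommRing R] {M : Type} [AddCommGroup M]

/-- The subgroup of a split torus cut out by a group of characters. -/
abbrev incl (R : Type u) [CommRing R] {M : Type} [AddCommGroup M] (N : AddSubgroup M) :
    sp R (MonoidAlgebra R (Multiplicative (M ⧸ N))) ⟶ sp R (MonoidAlgebra R (Multiplicative M)) :=
  pt (R := R) (MultTorus.mapChar (QuotientAddGroup.mk' N))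

theorem facts_incl (N : AddSubgroup M) :
    IsMonHom (incl R N) ∧ IsClosedImmersion (incl R N).left ∧ Mono (incl R N) := by
  have hci : IsClosedImmersion (incl R N).left := by
    rw [pt_left]
    exact IsClosedImmersion.spec_of_surjective _
      (MultTorus.surjective_mapChar _ (QuotientAddGroup.mk'_surjective N))
  haveI := hci
  have hm := MultTorus.isMonHom_mapChar (R := R) (QuotientAddGroup.mk' N)
  exact ⟨hm, hci, Over.mono_of_mono_left _⟩

/-- A homomorphism killing `N` factors through the characters modulo `N`. -/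
theorem exists_lift_incl {B : Type u} [CommRing B] [Algebra R B] (N : AddSubgroup M)
    (τ : MonoidAlgebra R (Multiplicative M) →ₐ[R] B) (h : ∀ n ∈ N, τ (chi R n) = 1) :
    ∃ τ' : MonoidAlgebra R (Multiplicative (M ⧸ N)) →ₐ[R] B,
      τ'.comp (MultTorus.mapChar (QuotientAddGroup.mk' N)) = τ := by
  let f : M →+ Additive B :=
    { toFun := fun m => Additive.ofMul (τ (chi R m))
      map_zero' := congrArg Additive.ofMul (map_one τ)
      map_add' := fun x y => by
        show Additive.ofMul (τ (MonoidAlgebra.single (Multiplicative.ofAdd x * Multiplicative.ofAdd y) 1)) = _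
        rw [← _root_.one_mul (1 : R), ← MonoidAlgebra.single_mul_single, map_mul]
        simp }
  let g : M ⧸ N →+ Additive B := QuotientAddGroup.lift N f fun n hn => congrArg Additive.ofMul (h n hn)
  let g' : Multiplicative (M ⧸ N) →* B :=
    { toFun := fun m => Additive.toMul (g (Multiplicative.toAdd m))
      map_one' := by rw [toAdd_one, map_zero]; rfl
      map_mul' := fun x y => by rw [toAdd_mul, map_add]; rfl }
  refine ⟨MonoidAlgebra.lift R B (Multiplicative (M ⧸ N)) g', MonoidAlgebra.algHom_ext (fun m => ?_)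
    (AlgHom.ext fun c => (AlgHom.commutes _ c).trans (AlgHom.commutes _ c).symm)⟩
  rw [AlgHom.comp_apply, MultTorus.mapChar_single]
  simp [g', g, f]
  rfl

theorem fn_comp' {A C : Type u} [CommRing A] [Algebra R A] [CommRing C] [Algebra R C]
    {X : Over (Spec (CommRingCat.of R))} (g : X ⟶ sp R A) (φ : C →ₐ[R] A) :
    fn (g ≫ pt φ) = (fn g).comp φ := fn_unique (by rw [toSp_fn, pt_comp, ← Category.assoc, toSp_fn])

/-- Near a point of the base, the central points of a split torus form the subgroup cut out by the weights at the point. -/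
theorem exists_local_centre (G : Over (Spec (CommRingCat.of R))) [GrpObj G] [IsAffineHom G.hom] [Smooth G.hom]
    (hconn : ∀ t : ↥(Spec (CommRingCat.of R)),
      ConnectedSpace ↥(pullback G.hom ((Spec (CommRingCat.of R)).fromSpecResidueField t)))
    [Module.Finite ℤ M] (i : sp R (MonoidAlgebra R (Multiplicative M)) ⟶ G) [IsMonHom i] [Mono i]
    (s : ↥(Spec (CommRingCat.of R))) :
    ∃ (U : (Spec (CommRingCat.of R)).Opens) (N : AddSubgroup M), s ∈ U ∧
      (∀ (X : Over (Spec (CommRingCat.of R))), Set.range X.hom ⊆ (U : Set ↥(Spec (CommRingCat.of R))) →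
        ∀ (g : X ⟶ G) (h : X ⟶ sp R (MonoidAlgebra R (Multiplicative (M ⧸ N)))),
          g * (h ≫ incl R N ≫ i) = (h ≫ incl R N ≫ i) * g) ∧
      ∀ (Y : Over (Spec (CommRingCat.of R))) (t : Y ⟶ sp R (MonoidAlgebra R (Multiplicative M))),
        Set.range Y.hom ⊆ (U : Set ↥(Spec (CommRingCat.of R))) →
        (∀ (Y' : Over (Spec (CommRingCat.of R))) (y : Y' ⟶ Y) (g : Y' ⟶ G),
          (y ≫ t ≫ i) * g = g * (y ≫ t ≫ i)) →
        ∃ t' : Y ⟶ sp R (MonoidAlgebra R (Multiplicative (M ⧸ N))), t' ≫ incl R N = t := by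
  classical
  haveI : IsAffine G.left := isAffine_of_isAffineHom G.hom
  obtain ⟨A, _, _, v, hv, hv'⟩ := DeligneKillLib.exists_sp G
  haveI := hv; haveI := hv'
  haveI : IsIso v.hom.left := (Over.forget _).map_isIso v.hom
  haveI : Smooth (sp R A).hom := by rw [← Over.w v.hom]; infer_instance
  let K : Type u := AlgebraicClosure ((Spec (CommRingCat.of R)).residueField s)
  letI : Algebra R K := (Spec.preimage (Red.geomPt s)).hom.toAlgebra
  have hK : Spec.map (CommRingCat.ofHom (algebraMap R K)) = Red.geomPt s := Spec.map_preimage _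
  have hs : (IsLocalRing.closedPoint K).comap (algebraMap R K) = s := by
    show (Spec.map (CommRingCat.ofHom (algebraMap R K))) (IsLocalRing.closedPoint K) = s
    rw [hK]
    exact RedRank.geomPt_apply s
  obtain ⟨U₀, hsU₀, hU₀⟩ := exists_nhd_weights (i ≫ v.inv) (K := K)
  let N : AddSubgroup M := Wts (i ≫ v.inv) K
  obtain ⟨hjm, hjc, hjmono⟩ := facts_incl (R := R) N
  haveI := hjm; haveI := hjc; haveI := hjmono
  have hcs : CentLocus.CentAt (incl R N ≫ i) (Red.geomPt s) := by
    refine (CentLocus.centAt_iff _ _).2 fun Y q hq g h => ?_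
    let ψ : Y ⟶ sp R K := Over.homMk q (by
      show q ≫ Spec.map (CommRingCat.ofHom (algebraMap R K)) = Y.hom
      rw [hK]; exact hq)
    have h1 := mul_comm_of_weights (i ≫ v.inv) (h ≫ incl R N)
      (weights_eq_zero (i ≫ v.inv) ψ (h ≫ incl R N) fun n hn => by
        rw [fn_comp', AlgHom.comp_apply, MultTorus.mapChar_single]
        have h0 : (QuotientAddGroup.mk' N n : M ⧸ N) = 0 := (QuotientAddGroup.eq_zero_iff n).2 hn
        show fn h (MonoidAlgebra.single (Multiplicative.ofAdd (QuotientAddGroup.mk' N n)) 1) = 1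
        rw [h0]
        exact map_one (fn h)) (g ≫ v.inv)
    refine (cancel_mono v.inv).1 ?_
    rw [MonObj.mul_comp, MonObj.mul_comp]
    simpa only [Category.assoc] using h1
  haveI : AddGroup.FG (M ⧸ N) := by
    haveI : Module.Finite ℤ (M ⧸ N) := Module.Finite.of_surjective
      (QuotientAddGroup.mk' N).toIntLinearMap (QuotientAddGroup.mk'_surjective N)
    exact Module.Finite.iff_addGroup_fg.1 inferInstance
  obtain ⟨w, hw, hw'⟩ := TorusField.exists_DS_iso R (M ⧸ N)
  haveI := hw
  obtain ⟨U₁, hsU₁, hU₁⟩ := S5295.result _ G (CentreRed.isMultTypeFT_of_iso _ ‹AddGroup.FG (M ⧸ N)› w) hconn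
    (incl R N ≫ i) s (by
      have h := (TrivLocus.triv_field_iff (Red.geomPt s)).1 hcs
      rw [RedRank.geomPt_apply] at h
      exact fun X g h' => ((CentLocus.centAt_bc_iff _ _).1 h X g h').symm)
  refine ⟨U₁ ⊓ ⟨U₀.1, U₀.2⟩, N, ⟨hsU₁, ?_⟩, fun X hX g h => ?_, fun Y t hY ht => ?_⟩
  · show s ∈ U₀
    exact hs ▸ hsU₀
  · have hX₁ : Set.range X.hom ⊆ Set.range U₁.ι := by
      rw [Scheme.Opens.range_ι]
      exact fun x hx => (hX hx).1
    exact hU₁ X (Over.homMk (IsOpenImmersion.lift U₁.ι X.hom hX₁) (IsOpenImmersion.lift_fac _ _ _)) g h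
  have hloc : ∀ a, ∃ m : Y.left.affineCover.X a ⟶ (sp R (MonoidAlgebra R (Multiplicative (M ⧸ N)))).left,
      m ≫ (incl R N).left = Y.left.affineCover.f a ≫ t.left := by
    intro a
    let W : Over (Spec (CommRingCat.of R)) := Over.mk (Y.left.affineCover.f a ≫ Y.hom)
    let b : W ⟶ Y := Over.homMk (Y.left.affineCover.f a)
    haveI : IsAffine W.left := inferInstanceAs (IsAffine (Y.left.affineCover.X a))
    haveI : IsIso (toSp W).left := inferInstanceAs (IsIso W.left.toSpecΓ)
    haveI : IsIso (toSp W) := by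
      haveI : IsIso ((Over.forget _).map (toSp W)) := inferInstanceAs (IsIso (toSp W).left)
      exact isIso_of_reflects_iso (toSp W) (Over.forget _)
    have hpt : pt (fn (b ≫ t)) = inv (toSp W) ≫ b ≫ t := by
      rw [IsIso.eq_inv_comp, toSp_fn]
    have hkill : ∀ n ∈ N, fn (b ≫ t) (chi R n) = 1 := by
      refine hU₀ _ (fn (b ≫ t)) (fun p => ?_) fun a' m => weights_of_central (i ≫ v.inv) (fn (b ≫ t))
        (fun Y' y g => ?_) a' m
      · have hp : (Spec.map (CommRingCat.ofHom (algebraMap R Γ(W.left, ⊤)))) p ∈ Set.range Y.hom := by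
          refine ⟨Y.left.affineCover.f a ((inv (toSp W)).left p), ?_⟩
          rw [← Scheme.Hom.comp_apply]
          exact (Scheme.Hom.comp_apply (inv (toSp W)).left W.hom p).symm.trans
            (congrArg (fun m => m p) (Over.w (inv (toSp W))))
        exact (hY hp).2
      · refine (cancel_mono v.hom).1 ?_
        rw [MonObj.mul_comp, MonObj.mul_comp, hpt]
        simpa only [Category.assoc, v.inv_hom_id, Category.comp_id] using
          ht Y' (y ≫ inv (toSp W) ≫ b) (g ≫ v.hom)
    obtain ⟨τ', hτ'⟩ := exists_lift_incl N (fn (b ≫ t)) hkill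
    have hfac : (toSp W ≫ pt τ') ≫ incl R N = b ≫ t := by
      rw [Category.assoc, ← pt_comp, hτ', toSp_fn]
    exact ⟨(toSp W ≫ pt τ').left, congrArg Over.Hom.left hfac⟩
  choose m hm using hloc
  let t' : Y.left ⟶ (sp R (MonoidAlgebra R (Multiplicative (M ⧸ N)))).left :=
    Y.left.affineCover.glueMorphisms m fun a b => (cancel_mono (incl R N).left).1 (by
      rw [Category.assoc, Category.assoc, hm, hm, pullback.condition_assoc])
  have ht' : t' ≫ (incl R N).left = t.left := Y.left.affineCover.hom_ext _ _ fun a => by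
    rw [← Category.assoc, Scheme.Cover.ι_glueMorphisms, hm]
  refine ⟨Over.homMk t' ?_, Over.OverMorphism.ext ht'⟩
  rw [← Over.w (incl R N), reassoc_of% ht']
  exact Over.w t

end Groth.Agent.RCentre
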